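import Groth.Agent.L18.RelTilde.Frames

/-!
# Global fractions as frames; the non-vanishing locus of `α_d(f)`
-/

set_option autoImplicit false

noncomputable section

universe u

open CategoryTheory CategoryTheory.Limits AlgebraicGeometry TopologicalSpace Opposite
open Groth.L18
open Groth.L18.Frame (rs ro rs_rs rs_self rs_smul IsFrame)

namespace Groth.L18.RelTilde

variable {S P : Scheme.{u}} {𝒮 : RelProj.QCGrAlg S} {p : P ⟶ S}
  {chart : ∀ (U : S.Opens) (hU : IsAffineOpen U), (((p ⁻¹ᵁ U : P.Opens) : Scheme.{u}) ≅ Proj (𝒮.deg U hU))} {n : ℤ}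
  {L : P.Modules} {lam : ∀ (U : S.Opens) (hU : IsAffineOpen U),
    L ⟶ (Scheme.Modules.pushforward (RelProj.emb p chart U hU)).obj (GrTwist.twist (𝒮.deg U hU) n)}

/-- A section reading an invertible fraction on every chart is a frame. -/
theorem isFrame_of_values (hL : RelProj.IsRelTwist 𝒮 p chart n L lam) {W : P.Opens} (e : Γ(L, W))
    (h : ∀ (U : S.Opens) (hU : IsAffineOpen U), ∃ (i j : ℕ) (a : 𝒮.deg U hU i) (b : 𝒮.deg U hU j)
      (hb : ∀ y, (RelProj.emb p chart U hU).base y ∈ W → (b : 𝒮.presheaf.obj (op U)) ∉ y.asHomogeneousIdeal),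
      (i : ℤ) = j + n ∧
      (∀ y, (RelProj.emb p chart U hU).base y ∈ W → (a : 𝒮.presheaf.obj (op U)) ∉ y.asHomogeneousIdeal) ∧
      ∀ (y : _) (hy : (RelProj.emb p chart U hU).base y ∈ W),
        GrTwist.val (V := RelProj.emb p chart U hU ⁻¹ᵁ W) ((lam U hU).app W e) ⟨y, hy⟩ =
          Localization.mk (a : 𝒮.presheaf.obj (op U)) ⟨(b : 𝒮.presheaf.obj (op U)), hb y hy⟩) :
    IsFrame L W e := by
  refine IsFrame.of_cover (fun U : S.affineOpens => W ⊓ p ⁻¹ᵁ U.1) (fun U => inf_le_left) (fun x hx => ?_) fun U => ?_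
  · obtain ⟨U, hU⟩ := Data.exists_affine_nhd (p := p) x
    exact Opens.mem_iSup.mpr ⟨U, hx, hU⟩
  obtain ⟨i, j, a, b, hb, hN, ha, hval⟩ := h U.1 U.2
  refine isFrame_of_adjoint _ (lam U.1 U.2) (fun V hV => hL.bijective U.1 U.2 V (hV.trans (RP.opensRange_emb U.1 U.2).le))
    (inf_le_right.trans (RP.opensRange_emb U.1 U.2).ge) _ ?_
  rw [show (lam U.1 U.2).app (W ⊓ p ⁻¹ᵁ U.1) (rs L inf_le_left e) =
      rs ((Scheme.Modules.pushforward (RelProj.emb p chart U.1 U.2)).obj (GrTwist.twist (𝒮.deg U.1 U.2) n))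
        inf_le_left ((lam U.1 U.2).app W e) from
    ConcreteCategory.congr_hom ((lam U.1 U.2).mapPresheaf.naturality (homOfLE inf_le_left).op) e]
  have key : (show GrTwist.sectN (𝒜 := 𝒮.deg U.1 U.2) n (op (RelProj.emb p chart U.1 U.2 ⁻¹ᵁ (W ⊓ p ⁻¹ᵁ U.1))) from
      rs ((Scheme.Modules.pushforward (RelProj.emb p chart U.1 U.2)).obj (GrTwist.twist (𝒮.deg U.1 U.2) n))
        inf_le_left ((lam U.1 U.2).app W e)) =
      GrM.genT a b hN (RelProj.emb p chart U.1 U.2 ⁻¹ᵁ (W ⊓ p ⁻¹ᵁ U.1)) (fun x => hb x.1 x.2.1) :=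
    GrM.sectN_ext fun x => hval x.1 x.2.1
  refine (congrArg (IsFrame (GrTwist.twist (𝒮.deg U.1 U.2) n) _) key).mpr ?_
  exact GrM.isFrame_genT a b hN (RelProj.emb p chart U.1 U.2 ⁻¹ᵁ (W ⊓ p ⁻¹ᵁ U.1)) (fun x => ha x.1 x.2.1)
    (fun x => hb x.1 x.2.1)

/-- A global element of degree `d` gives a frame of `O(nd)` on its open. -/
theorem exists_frame_basicOpen (hP : RelProj.IsRelProj 𝒮 p chart) {d : ℕ} (f : 𝒮.presheaf.obj (op ⊤))
    (hf : ∀ (U : S.Opens) (hU : IsAffineOpen U), (𝒮.presheaf.map (homOfLE le_top).op).hom f ∈ 𝒮.deg U hU d)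
    {Xf : P.Opens} (hXf : ∀ (U : S.Opens) (hU : IsAffineOpen U) (y : ProjectiveSpectrum (𝒮.deg U hU)),
      (RelProj.emb p chart U hU).base y ∈ Xf →
        (𝒮.presheaf.map (homOfLE le_top).op).hom f ∉ y.asHomogeneousIdeal)
    (hdn : (d : ℤ) ∣ n) (hL : RelProj.IsRelTwist 𝒮 p chart n L lam) : ∃ e : Γ(L, Xf), IsFrame L Xf e := by
  obtain ⟨k, rfl⟩ := hdn
  let fU : ∀ U : S.Opens, 𝒮.presheaf.obj (op U) := fun U => (𝒮.presheaf.map (homOfLE le_top).op).hom f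
  have hdeg : ((k.toNat • d : ℕ) : ℤ) = ((-k).toNat • d : ℕ) + d * k := by
    simp only [smul_eq_mul, Nat.cast_mul]; rw [mul_comm (d : ℤ) k, ← add_mul]; congr 1; omega
  let s : ∀ U : S.affineOpens, Γ((selfData 𝒮).G p chart (d * k) U.1 U.2, Xf) := fun U =>
    GrM.genT (⟨fU U.1 ^ k.toNat, SetLike.pow_mem_graded _ (hf U.1 U.2)⟩ : 𝒮.deg U.1 U.2 (k.toNat • d))
      (⟨fU U.1 ^ (-k).toNat, SetLike.pow_mem_graded _ (hf U.1 U.2)⟩ : 𝒮.deg U.1 U.2 ((-k).toNat • d)) hdeg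
      (RelProj.emb p chart U.1 U.2 ⁻¹ᵁ Xf) (fun x => GrM.notMem_pow (hXf U.1 U.2 x.1 x.2) _)
  obtain ⟨e, he⟩ := (isRel_of_isRelTwist hL).exists_section hP s fun U E h y hy => by
    have hy' : (RelProj.emb p chart U.1 U.2).base (Data.down U.2 E.2 h y) ∈ Xf := by
      rw [Data.emb_down hP]; exact hy
    rw [Data.vtot, Data.vtot, Data.tot_of_mem _ _ hy, Data.tot_of_mem _ _ hy']
    symm
    refine (locModMap_self U.2 E.2 h.le (RP.irr 𝒮 U.2 E.2 h h.le) y _).trans ?_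
    refine (GrTwist.locMap_mk (𝒮.res U.2 E.2 h.le) _ y _ _).trans ?_
    have hres : 𝒮.res U.2 E.2 h.le (fU U.1) = fU E.1 :=
      ConcreteCategory.congr_hom (𝒮.presheaf.map_comp (homOfLE (le_top : U.1 ≤ ⊤)).op (homOfLE h.le).op).symm f
    simp only [map_pow, hres]
    rfl
  refine ⟨e, isFrame_of_values hL e fun U hU => ?_⟩
  refine ⟨_, _, (⟨fU U ^ k.toNat, SetLike.pow_mem_graded _ (hf U hU)⟩ : 𝒮.deg U hU (k.toNat • d)),
    (⟨fU U ^ (-k).toNat, SetLike.pow_mem_graded _ (hf U hU)⟩ : 𝒮.deg U hU ((-k).toNat • d)),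
    fun y hy => GrM.notMem_pow (hXf U hU y hy) _, hdeg, fun y hy => GrM.notMem_pow (hXf U hU y hy) _, fun y hy => ?_⟩
  refine (lamT_val (lam := lam) U hU Xf e ⟨y, hy⟩).symm.trans ?_
  rw [he ⟨U, hU⟩]
  rfl

/-- The non-vanishing locus of `α_d(f)`. -/
theorem eq_genLocus (hgen : 𝒮.IsGenDegOne) {d : ℕ} (f : 𝒮.presheaf.obj (op ⊤))
    (hf : ∀ (U : S.Opens) (hU : IsAffineOpen U), (𝒮.presheaf.map (homOfLE le_top).op).hom f ∈ 𝒮.deg U hU d)
    {Xf : P.Opens}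
    (hXf : ∀ (U : S.Opens) (hU : IsAffineOpen U) (y : ProjectiveSpectrum (𝒮.deg U hU)),
      (RelProj.emb p chart U hU).base y ∈ Xf ↔
        (𝒮.presheaf.map (homOfLE le_top).op).hom f ∉ y.asHomogeneousIdeal)
    (hL : RelProj.IsRelTwist 𝒮 p chart n L lam) (hn : n = d) (s : Coh.structureModule P ⟶ L)
    (hs : ∀ (U : S.Opens) (hU : IsAffineOpen U) (y : Proj (𝒮.deg U hU)),
      GrTwist.val (V := RelProj.emb p chart U hU ⁻¹ᵁ ⊤) ((lam U hU).app ⊤ (GenLoc.secOf s)) ⟨y, Set.mem_univ _⟩ =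
        Localization.mk ((𝒮.presheaf.map (homOfLE le_top).op).hom f) 1) :
    Xf = CohB1.genLocus L s := by
  subst hn
  have hrs : ∀ (U : S.Opens) (hU : IsAffineOpen U) (W : P.Opens) (y : ProjectiveSpectrum (𝒮.deg U hU))
      (hy : (RelProj.emb p chart U hU).base y ∈ W),
      GrTwist.val (V := RelProj.emb p chart U hU ⁻¹ᵁ W) ((lam U hU).app W (rs L le_top (GenLoc.secOf s))) ⟨y, hy⟩ =
        Localization.mk ((𝒮.presheaf.map (homOfLE le_top).op).hom f) 1 := by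
    intro U hU W y hy
    rw [show (lam U hU).app W (rs L le_top (GenLoc.secOf s)) =
        rs ((Scheme.Modules.pushforward (RelProj.emb p chart U hU)).obj (GrTwist.twist (𝒮.deg U hU) d)) le_top
          ((lam U hU).app ⊤ (GenLoc.secOf s)) from
      ConcreteCategory.congr_hom ((lam U hU).mapPresheaf.naturality (homOfLE le_top).op) (GenLoc.secOf s)]
    exact hs U hU y
  refine le_antisymm (GenLoc.le_genLocus s (isFrame_of_values hL _ fun U hU => ?_)) fun x hx => ?_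
  · exact ⟨d, 0, ⟨_, hf U hU⟩, ⟨1, SetLike.GradedOne.one_mem⟩,
      fun y _ h => y.isPrime.ne_top ((Ideal.eq_top_iff_one _).mpr h), by simp, fun y hy => (hXf U hU y).1 hy,
      fun y hy => hrs U hU Xf y hy⟩
  obtain ⟨_, ⟨U, hU, rfl⟩, hxU, -⟩ :=
    S.isBasis_affineOpens.exists_subset_of_mem_open (Set.mem_univ (p x)) isOpen_univ
  obtain ⟨y, rfl⟩ := QMap.exists_point (chart := chart) U hU x hxU
  obtain ⟨t, ht, hty⟩ := irr_le_span hgen U hU y
  refine (hXf U hU y).2 fun hfy => ?_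
  let W : P.Opens := RelProj.emb p chart U hU ''ᵁ Proj.basicOpen (𝒮.deg U hU) t ⊓ CohB1.genLocus L s
  have hWt : ∀ z, (RelProj.emb p chart U hU).base z ∈ W → t ∉ z.asHomogeneousIdeal := by
    rintro z ⟨⟨z', hz', e⟩, -⟩
    rw [(RelProj.emb p chart U hU).isOpenEmbedding.injective e] at hz'
    exact (Proj.mem_basicOpen _ _ _).1 hz'
  obtain ⟨e, he, hev⟩ := exists_frame_twist hL hU (⟨t ^ d, SetLike.pow_mem_graded _ ht⟩ : 𝒮.deg U hU (d • 1))
    (⟨1, SetLike.GradedOne.one_mem⟩ : 𝒮.deg U hU 0) (n := (d : ℤ)) (by simp) (W := W)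
    (inf_le_left.trans ((Scheme.Hom.image_le_opensRange _ _).trans (RP.opensRange_emb U hU).le))
    (fun z hz => GrM.notMem_pow (hWt z hz) d) (fun z _ h => z.isPrime.ne_top ((Ideal.eq_top_iff_one _).mpr h))
  have hyW : (RelProj.emb p chart U hU).base y ∈ W := ⟨⟨y, (Proj.mem_basicOpen _ _ _).2 hty, rfl⟩, hx⟩
  have hsW : IsFrame L W (rs L le_top (GenLoc.secOf s)) := by
    have := (GenLoc.isFrame_genLocus s).mono (inf_le_right : W ≤ _)
    rwa [rs_rs] at this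
  obtain ⟨c, hc⟩ := he.exists_coeff le_rfl (rs L le_top (GenLoc.secOf s))
  rw [rs_self] at hc
  have hcu : IsUnit c := Frame.isUnit_of_isFrame he (hc ▸ hsW)
  have h1 := hrs U hU W y hyW
  rw [← hc, show (lam U hU).app W (c • e) = c • (lam U hU).app W e from Scheme.Modules.Hom.app_smul _ _ _, hev] at h1
  let c' : GrTwist.A0 (𝒮.deg U hU) y :=
    (show GrTwist.O (𝒜 := 𝒮.deg U hU) (op (RelProj.emb p chart U hU ⁻¹ᵁ W)) from
      (RelProj.emb p chart U hU).app W c).1 ⟨y, hyW⟩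
  have hc' : IsUnit c'.val := by
    refine IsUnit.map (algebraMap (GrTwist.A0 (𝒮.deg U hU) y) (GrTwist.Loc (𝒮.deg U hU) y)) ?_
    exact ((hcu.map ((RelProj.emb p chart U hU).app W).hom).map
      (⟨⟨⟨fun r : GrTwist.O (𝒜 := 𝒮.deg U hU) (op (RelProj.emb p chart U hU ⁻¹ᵁ W)) => r.1 ⟨y, hyW⟩, rfl⟩,
        fun _ _ => rfl⟩, rfl, fun _ _ => rfl⟩ : GrTwist.O (𝒜 := 𝒮.deg U hU) (op (RelProj.emb p chart U hU ⁻¹ᵁ W)) →+*
          GrTwist.A0 (𝒮.deg U hU) y))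
  have h2 : c'.val * Localization.mk (t ^ d) (1 : y.asHomogeneousIdeal.toIdeal.primeCompl) =
      Localization.mk ((𝒮.presheaf.map (homOfLE le_top).op).hom f) 1 :=
    Eq.trans (GrTwist.coe_smul_val (d : ℤ) y c'
      ((GrM.genT (⟨t ^ d, SetLike.pow_mem_graded _ ht⟩ : 𝒮.deg U hU (d • 1))
        (⟨1, SetLike.GradedOne.one_mem⟩ : 𝒮.deg U hU 0) (n := (d : ℤ)) (by simp) (RelProj.emb p chart U hU ⁻¹ᵁ W)
        (fun z h => z.1.isPrime.ne_top ((Ideal.eq_top_iff_one _).mpr h))).1 ⟨y, hyW⟩)).symm h1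
  have hu : IsUnit (Localization.mk ((𝒮.presheaf.map (homOfLE le_top).op).hom f) 1 :
      GrTwist.Loc (𝒮.deg U hU) y) := by
    rw [← h2]
    refine hc'.mul ?_
    rw [Localization.mk_eq_mk']
    exact (IsLocalization.AtPrime.isUnit_mk'_iff (S := GrTwist.Loc (𝒮.deg U hU) y) y.asHomogeneousIdeal.toIdeal _ _).2
      (GrM.notMem_pow hty d)
  rw [Localization.mk_eq_mk'] at hu
  exact ((IsLocalization.AtPrime.isUnit_mk'_iff (S := GrTwist.Loc (𝒮.deg U hU) y) y.asHomogeneousIdeal.toIdeal _ _).1 hu) hfy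

end Groth.L18.RelTilde
namespace Groth.L18.RelTilde

variable {S P : Scheme.{u}} {𝒮 : RelProj.QCGrAlg S} {p : P ⟶ S}
  {chart : ∀ (U : S.Opens) (hU : IsAffineOpen U), (((p ⁻¹ᵁ U : P.Opens) : Scheme.{u}) ≅ Proj (𝒮.deg U hU))}

/-- Reading membership in `X_f` on a chart. -/
theorem mem_iff_of_inf_eq {U : S.Opens} (hU : IsAffineOpen U) {g : 𝒮.presheaf.obj (op U)} {Xf : P.Opens}
    (h : Xf ⊓ p ⁻¹ᵁ U = (p ⁻¹ᵁ U).ι ''ᵁ ((chart U hU).hom ⁻¹ᵁ Proj.basicOpen (𝒮.deg U hU) g))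
    (y : ProjectiveSpectrum (𝒮.deg U hU)) :
    (RelProj.emb p chart U hU).base y ∈ Xf ↔ g ∉ y.asHomogeneousIdeal := by
  rw [← RP.image_emb] at h
  have hy : (RelProj.emb p chart U hU).base y ∈ p ⁻¹ᵁ U := (RP.opensRange_emb U hU).le ⟨y, rfl⟩
  refine Iff.trans ⟨fun hx => ?_, fun hx => ?_⟩ (Proj.mem_basicOpen _ g y)
  · obtain ⟨z, hz, e⟩ := h.le ⟨hx, hy⟩
    rwa [← (RelProj.emb p chart U hU).isOpenEmbedding.injective e]
  · exact (h.ge ⟨y, hx, rfl⟩).1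

end Groth.L18.RelTilde
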