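import Groth.Agent.L18.RelTilde.Mul
import Groth.Agent.L18.RelTilde.GlobalFrame

/-!
# `ℳ(m)~ ⊗ O(n) ≅ ℳ(m+n)~`
-/

set_option autoImplicit false

noncomputable section

universe u

open CategoryTheory MonoidalCategory AlgebraicGeometry TopologicalSpace Opposite
open Groth.L00
open Groth.L18
open Groth.L18.Frame (IsFrame)

namespace Groth.L18.RelTilde

variable {S P : Scheme.{u}} {𝒮 : RelProj.QCGrAlg S} {D : Data 𝒮} {p : P ⟶ S}
  {chart : ∀ (U : S.Opens) (hU : IsAffineOpen U), (((p ⁻¹ᵁ U : P.Opens) : Scheme.{u}) ≅ Proj (𝒮.deg U hU))}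
  {m n k : ℤ}
  {F : P.Modules} {l : ∀ (U : S.Opens) (hU : IsAffineOpen U), F ⟶ D.G p chart m U hU}
  {L : P.Modules} {lam : ∀ (U : S.Opens) (hU : IsAffineOpen U),
    L ⟶ (Scheme.Modules.pushforward (RelProj.emb p chart U hU)).obj (GrTwist.twist (𝒮.deg U hU) n)}
  {F'' : P.Modules} {l'' : ∀ (U : S.Opens) (hU : IsAffineOpen U), F'' ⟶ D.G p chart k U hU}

/-- Under degree-one generation the multiplication is an isomorphism. -/
theorem nonempty_iso_mul (hP : RelProj.IsRelProj 𝒮 p chart) (hgen : 𝒮.IsGenDegOne) (hF : D.IsRel p chart m F l)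
    (hL : RelProj.IsRelTwist 𝒮 p chart n L lam) (hF'' : D.IsRel p chart k F'' l'') (hk : k = m + n) :
    Nonempty (CohB1.tensorMod F L ≅ F'') := by
  haveI := IsoCover.isIso_of_bijective (mulHom hP hF hL hF'' hk)
    (fun q : Σ U : S.affineOpens, 𝒮.deg U.1 U.2 1 =>
      RelProj.emb p chart q.1.1 q.1.2 ''ᵁ Proj.basicOpen (𝒮.deg q.1.1 q.1.2) (q.2 : 𝒮.presheaf.obj (op q.1.1)))
    (fun x => by
      obtain ⟨U, hxU⟩ := Data.exists_affine_nhd (p := p) x
      obtain ⟨y, rfl⟩ := QMap.exists_point (chart := chart) U.1 U.2 x hxU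
      obtain ⟨t, ht, hty⟩ := irr_le_span hgen U.1 U.2 y
      exact ⟨⟨U, t, ht⟩, y, (Proj.mem_basicOpen _ _ _).2 hty, rfl⟩)
    fun q V hV => by
      obtain ⟨U, t, ht⟩ := q
      have hVt : ∀ y, (RelProj.emb p chart U.1 U.2).base y ∈ V → ∀ N : ℕ, t ^ N ∉ y.asHomogeneousIdeal := by
        intro y hy N
        obtain ⟨y', hy', e⟩ := hV hy
        rw [(RelProj.emb p chart U.1 U.2).isOpenEmbedding.injective e] at hy'
        exact GrM.notMem_pow ((Proj.mem_basicOpen _ _ _).1 hy') N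
      exact mulHom_bijective hP hF hL hF'' hk
        (⟨t ^ n.toNat, SetLike.pow_mem_graded _ ht⟩ : 𝒮.deg U.1 U.2 (n.toNat • 1))
        (⟨t ^ (-n).toNat, SetLike.pow_mem_graded _ ht⟩ : 𝒮.deg U.1 U.2 ((-n).toNat • 1))
        (by simp only [smul_eq_mul, mul_one]; omega)
        (hV.trans ((Scheme.Hom.image_le_opensRange _ _).trans (RP.opensRange_emb U.1 U.2).le))
        (fun y hy => hVt y hy _) (fun y hy => hVt y hy _)
  exact ⟨asIso (mulHom hP hF hL hF'' hk)⟩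

/-- `O(0)` has a global frame. -/
theorem exists_frame_zero (hP : RelProj.IsRelProj 𝒮 p chart) {L₀ : P.Modules}
    {lam₀ : ∀ (U : S.Opens) (hU : IsAffineOpen U),
      L₀ ⟶ (Scheme.Modules.pushforward (RelProj.emb p chart U hU)).obj (GrTwist.twist (𝒮.deg U hU) (0 : ℤ))}
    (hL₀ : RelProj.IsRelTwist 𝒮 p chart 0 L₀ lam₀) : ∃ e : Γ(L₀, ⊤), IsFrame L₀ ⊤ e := by
  refine exists_frame_basicOpen hP (d := 0) (1 : 𝒮.presheaf.obj (op ⊤)) (fun U hU => ?_) (fun U hU y _ => ?_)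
    (dvd_zero _) hL₀
  · rw [map_one]; exact SetLike.GradedOne.one_mem
  · rw [map_one]; exact fun h => y.isPrime.ne_top ((Ideal.eq_top_iff_one _).mpr h)

/-- On a quasi-compact open a period makes `O(n)` and `O(-n)` inverse to each other. -/
theorem exists_period_tensor (hP : RelProj.IsRelProj 𝒮 p chart) {G : P.Opens} (hG : IsCompact (G : Set P)) :
    ∃ d : ℕ, 0 < d ∧ ∀ (n : ℤ), (d : ℤ) ∣ n →
      ∀ (L : P.Modules) (lam : ∀ (V : S.Opens) (hV : IsAffineOpen V),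
          L ⟶ (Scheme.Modules.pushforward (RelProj.emb p chart V hV)).obj (GrTwist.twist (𝒮.deg V hV) n)),
        RelProj.IsRelTwist 𝒮 p chart n L lam →
      ∀ (L' : P.Modules) (lam' : ∀ (V : S.Opens) (hV : IsAffineOpen V),
          L' ⟶ (Scheme.Modules.pushforward (RelProj.emb p chart V hV)).obj (GrTwist.twist (𝒮.deg V hV) (-n))),
        RelProj.IsRelTwist 𝒮 p chart (-n) L' lam' →
          Nonempty (CohB1.tensorMod (L.restrict G.ι) (L'.restrict G.ι) ≅ Coh.structureModule (G : Scheme.{u})) := by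
  obtain ⟨d, hd, h⟩ := exists_period (𝒮 := 𝒮) p (chart := chart) hG
  refine ⟨d, hd, fun n hn L lam hL L' lam' hL' => ?_⟩
  have h0 := (selfData 𝒮).isRel_glued p chart 0 hP
  have hk : (0 : ℤ) = n + -n := by omega
  let μ := mulHom hP (isRel_of_isRelTwist hL) hL' h0 hk
  obtain ⟨e, he⟩ := exists_frame_zero hP (isRelTwist_of_isRel h0)
  obtain ⟨ψ⟩ := nonempty_iso_of_frame (he.mono (le_top : G ≤ ⊤))
  let φ := (Scheme.Modules.restrictFunctor G.ι).map μ
  have : IsIso φ := by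
    choose U hU d' f hf hd' hx using fun x : G => h x.1 x.2
    refine IsoCover.isIso_of_bijective φ
      (fun x : G => G.ι ⁻¹ᵁ (RelProj.emb p chart (U x) (hU x) ''ᵁ Proj.basicOpen (𝒮.deg (U x) (hU x)) (f x)))
      (fun x => ⟨x, hx x⟩) fun x V hV => ?_
    have hle : G.ι ''ᵁ V ≤ RelProj.emb p chart (U x) (hU x) ''ᵁ Proj.basicOpen (𝒮.deg (U x) (hU x)) (f x) :=
      (G.ι.image_mono hV).trans (G.ι.image_preimage_le _)
    obtain ⟨c, hc⟩ := ((Int.natCast_dvd_natCast.2 (hd' x)).trans hn : (d' x : ℤ) ∣ n)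
    have hne : ∀ y, (RelProj.emb p chart (U x) (hU x)).base y ∈ G.ι ''ᵁ V → ∀ N : ℕ,
        f x ^ N ∉ y.asHomogeneousIdeal := by
      intro y hy N
      obtain ⟨y', hy', e⟩ := hle hy
      rw [(RelProj.emb p chart (U x) (hU x)).isOpenEmbedding.injective e] at hy'
      exact GrM.notMem_pow ((Proj.mem_basicOpen _ _ _).1 hy') N
    exact mulHom_bijective hP (isRel_of_isRelTwist hL) hL' h0 hk (U := ⟨U x, hU x⟩)
      (⟨f x ^ (-c).toNat, SetLike.pow_mem_graded _ (hf x)⟩ : 𝒮.deg (U x) (hU x) ((-c).toNat • d' x))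
      (⟨f x ^ c.toNat, SetLike.pow_mem_graded _ (hf x)⟩ : 𝒮.deg (U x) (hU x) (c.toNat • d' x))
      (by simp only [smul_eq_mul, Nat.cast_mul]; rw [hc, mul_comm (d' x : ℤ) c, ← neg_mul, ← add_mul]; congr 1; omega)
      (hle.trans ((Scheme.Hom.image_le_opensRange _ _).trans (RP.opensRange_emb (U x) (hU x)).le))
      (fun y hy => hne y hy _) (fun y hy => hne y hy _)
  exact ⟨Groth.L00.Tensor.tensorRestrict G.ι L L' ≪≫ @asIso _ _ _ _ φ this ≪≫ ψ⟩

end Groth.L18.RelTilde
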