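import Groth.Agent.L18.RelTilde.Apps
import Groth.Agent.L18.RelProj.GenDegOne
import Groth.Agent.L18.GrMod.TwistFrame
import Groth.Agent.L18.AmpleLocal

/-!
# Frames of the twisting sheaves on a relative `Proj`
-/

set_option autoImplicit false

noncomputable section

universe u

open CategoryTheory CategoryTheory.Limits AlgebraicGeometry TopologicalSpace Opposite
open Groth.L18
open Groth.L18.Frame (rs ro rs_rs rs_self rs_smul IsFrame)

namespace Groth.L18.RelTilde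

section General

variable {X Y : Scheme.{u}} (j : Y ⟶ X) [IsOpenImmersion j]

/-- Frames of a direct image along an open immersion. -/
theorem isFrame_of_adjoint {M : X.Modules} {N : Y.Modules} (l : M ⟶ (Scheme.Modules.pushforward j).obj N)
    (hl : ∀ V : X.Opens, V ≤ j.opensRange → Function.Bijective (l.app V))
    {W : X.Opens} (hW : W ≤ j.opensRange) (e : Γ(M, W))
    (he : IsFrame N (j ⁻¹ᵁ W) (show Γ(N, j ⁻¹ᵁ W) from l.app W e)) : IsFrame M W e := by
  intro V hV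
  haveI := j.isIso_app V (hV.trans hW)
  have key : (l.app V) ∘ (fun r : Γ(X, V) => r • rs M hV e) =
      (fun r : Γ(Y, j ⁻¹ᵁ V) => (show Γ((Scheme.Modules.pushforward j).obj N, V) from
        r • rs N (j.preimage_mono hV) (show Γ(N, j ⁻¹ᵁ W) from l.app W e))) ∘ (fun r => j.app V r) := by
    funext r
    refine (Scheme.Modules.Hom.app_smul l r _).trans ?_
    show r • l.app V (rs M hV e) = _
    rw [show l.app V (rs M hV e) = rs ((Scheme.Modules.pushforward j).obj N) hV (l.app W e) from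
      ConcreteCategory.congr_hom (l.mapPresheaf.naturality (homOfLE hV).op) e]
    rfl
  refine (Function.Bijective.of_comp_iff' (hl V (hV.trans hW)) _).1 ?_
  rw [key]
  exact (he _ _).comp ((ConcreteCategory.isIso_iff_bijective (j.app V)).1 inferInstance)

/-- A frame on an open gives a trivialisation there. -/
theorem nonempty_iso_of_frame {N : X.Modules} {W : X.Opens} {e : Γ(N, W)} (he : IsFrame N W e) :
    Nonempty (N.restrict W.ι ≅ Coh.structureModule (W : Scheme.{u})) := by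
  let N' := (Scheme.Modules.restrictFunctor W.ι).obj N
  refine ⟨(@asIso _ _ _ _ (Groth.L16.homOfSection N' (rs N W.ι_image_top.le e))
    (Groth.L16.isIso_homOfSection _ _ fun V => ?_)).symm⟩
  have hV : W.ι ''ᵁ V ≤ W := (Scheme.Hom.image_le_opensRange _ _).trans_eq W.opensRange_ι
  have key : (fun r : Γ(W.toScheme, V) =>
      r • N'.presheaf.map (homOfLE (le_top : V ≤ ⊤)).op (rs N W.ι_image_top.le e)) =
      fun r : Γ(W.toScheme, V) => (show Γ(N', V) from (show Γ(X, W.ι ''ᵁ V) from r) • rs N hV e) := by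
    funext r
    refine (Frame.restrict_smul' N W V r _).trans ?_
    exact congrArg (_ • ·) (rs_rs N _ _ e)
  rw [key]
  exact he _ hV

/-- A module with frames near the points of an open is invertible there. -/
theorem isInvertible_restrict_of_frames {N : X.Modules} {G : X.Opens}
    (h : ∀ x ∈ G, ∃ (W : X.Opens) (e : Γ(N, W)), x ∈ W ∧ IsFrame N W e) : PicF.IsInvertible (N.restrict G.ι) := by
  refine GenLoc.isInvertible_of_frames fun x => ?_
  obtain ⟨W, e, hxW, he⟩ := h x.1 x.2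
  have hle : G.ι ''ᵁ (G.ι ⁻¹ᵁ W) ≤ W := fun z ⟨y, hy, hz⟩ => hz ▸ hy
  exact ⟨G.ι ⁻¹ᵁ W, _, hxW, (Groth.L18.Ample.isFrame_restrict_iff N G _ (rs N hle e)).mpr (he.mono hle)⟩

end General

namespace Data

variable {S P : Scheme.{u}} {𝒮 : RelProj.QCGrAlg S} {D : Data 𝒮} {p : P ⟶ S}
  {chart : ∀ (U : S.Opens) (hU : IsAffineOpen U), (((p ⁻¹ᵁ U : P.Opens) : Scheme.{u}) ≅ Proj (𝒮.deg U hU))} {n : ℤ}
  {F : P.Modules} {l : ∀ (U : S.Opens) (hU : IsAffineOpen U), F ⟶ D.G p chart n U hU}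

/-- Sections are given by compatible families of chart sections. -/
theorem IsRel.exists_section (hP : RelProj.IsRelProj 𝒮 p chart) (hF : D.IsRel p chart n F l) {W : P.Opens}
    (s : ∀ U : S.affineOpens, Γ(D.G p chart n U.1 U.2, W)) (hs : D.IsCompat p chart n W s) :
    ∃ e : Γ(F, W), ∀ U : S.affineOpens, (l U.1 U.2).app W e = s U := by
  haveI := hF.isIso_toGlued hP
  have hb := (ConcreteCategory.isIso_iff_bijective ((hF.toGlued hP).app W)).1 inferInstance
  obtain ⟨e, he⟩ := hb.2 (⟨s, hs⟩ : D.compatSub p chart n hP (op W))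
  exact ⟨e, fun U => congrArg (fun w : D.compatSub p chart n hP (op W) => w.1 U) he⟩

end Data

section twist

variable {S P : Scheme.{u}} {𝒮 : RelProj.QCGrAlg S} {p : P ⟶ S}
  {chart : ∀ (U : S.Opens) (hU : IsAffineOpen U), (((p ⁻¹ᵁ U : P.Opens) : Scheme.{u}) ≅ Proj (𝒮.deg U hU))} {n : ℤ}
  {L : P.Modules} {lam : ∀ (U : S.Opens) (hU : IsAffineOpen U),
    L ⟶ (Scheme.Modules.pushforward (RelProj.emb p chart U hU)).obj (GrTwist.twist (𝒮.deg U hU) n)}

theorem irr_le_span (hgen : 𝒮.IsGenDegOne) (U : S.Opens) (hU : IsAffineOpen U)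
    (y : ProjectiveSpectrum (𝒮.deg U hU)) : ∃ t ∈ 𝒮.deg U hU 1, t ∉ y.asHomogeneousIdeal := by
  by_contra hne
  push Not at hne
  refine y.not_irrelevant_le ?_
  show (HomogeneousIdeal.irrelevant (𝒮.deg U hU)).toIdeal ≤ y.asHomogeneousIdeal.toIdeal
  exact (RPGen.irrelevant_le_span (𝒮.deg U hU) (hgen U hU) (T := (𝒮.deg U hU 1 : Set (𝒮.presheaf.obj (op U))))
    fun x hx => Ideal.subset_span hx).trans (Ideal.span_le.2 hne)

/-- An invertible fraction is a frame. -/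
theorem exists_frame_twist (hL : RelProj.IsRelTwist 𝒮 p chart n L lam) {U : S.Opens} (hU : IsAffineOpen U)
    {i j : ℕ} (a : 𝒮.deg U hU i) (b : 𝒮.deg U hU j) (hN : (i : ℤ) = j + n) {W : P.Opens} (hW : W ≤ p ⁻¹ᵁ U)
    (ha : ∀ y, (RelProj.emb p chart U hU).base y ∈ W → (a : 𝒮.presheaf.obj (op U)) ∉ y.asHomogeneousIdeal)
    (hb : ∀ y, (RelProj.emb p chart U hU).base y ∈ W → (b : 𝒮.presheaf.obj (op U)) ∉ y.asHomogeneousIdeal) :
    ∃ e : Γ(L, W), IsFrame L W e ∧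
      (lam U hU).app W e = GrM.genT a b hN (RelProj.emb p chart U hU ⁻¹ᵁ W) (fun x => hb x.1 x.2) := by
  obtain ⟨e, he⟩ := (hL.bijective U hU W hW).2
    (GrM.genT a b hN (RelProj.emb p chart U hU ⁻¹ᵁ W) (fun x => hb x.1 x.2))
  refine ⟨e, isFrame_of_adjoint _ (lam U hU) (fun V hV => hL.bijective U hU V (hV.trans (RP.opensRange_emb U hU).le))
    (hW.trans (RP.opensRange_emb U hU).ge) e ?_, he⟩
  rw [he]
  exact GrM.isFrame_genT a b hN _ (fun x => ha x.1 x.2) (fun x => hb x.1 x.2)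

/-- Near a point lying in a chart `D₊(f)` with `deg f = d ∣ n` there is a frame. -/
theorem exists_frame_of_dvd (hL : RelProj.IsRelTwist 𝒮 p chart n L lam) {U : S.Opens} (hU : IsAffineOpen U)
    {d : ℕ} {f : 𝒮.presheaf.obj (op U)} (hf : f ∈ 𝒮.deg U hU d) (hdn : (d : ℤ) ∣ n) :
    ∃ e : Γ(L, RelProj.emb p chart U hU ''ᵁ Proj.basicOpen (𝒮.deg U hU) f),
      IsFrame L (RelProj.emb p chart U hU ''ᵁ Proj.basicOpen (𝒮.deg U hU) f) e := by
  obtain ⟨k, rfl⟩ := hdn
  have hy : ∀ y, (RelProj.emb p chart U hU).base y ∈ RelProj.emb p chart U hU ''ᵁ Proj.basicOpen (𝒮.deg U hU) f →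
      ∀ m : ℕ, f ^ m ∉ y.asHomogeneousIdeal := by
    rintro y ⟨y', hy', e⟩ m
    rw [(RelProj.emb p chart U hU).isOpenEmbedding.injective e] at hy'
    exact GrM.notMem_pow ((Proj.mem_basicOpen _ _ _).1 hy') m
  obtain ⟨e, he, -⟩ := exists_frame_twist hL hU
    (⟨f ^ k.toNat, SetLike.pow_mem_graded _ hf⟩ : 𝒮.deg U hU (k.toNat • d))
    (⟨f ^ (-k).toNat, SetLike.pow_mem_graded _ hf⟩ : 𝒮.deg U hU ((-k).toNat • d))
    (by simp only [smul_eq_mul, Nat.cast_mul]; rw [mul_comm (d : ℤ) k, ← add_mul]; congr 1; omega)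
    ((Scheme.Hom.image_le_opensRange _ _).trans (RP.opensRange_emb U hU).le)
    (fun y h => hy y h _) (fun y h => hy y h _)
  exact ⟨e, he⟩

theorem isInvertible_of_genDegOne (hgen : 𝒮.IsGenDegOne) (hL : RelProj.IsRelTwist 𝒮 p chart n L lam) :
    PicF.IsInvertible L := by
  refine GenLoc.isInvertible_of_frames fun x => ?_
  obtain ⟨_, ⟨U, hU, rfl⟩, hxU, -⟩ :=
    S.isBasis_affineOpens.exists_subset_of_mem_open (Set.mem_univ (p x)) isOpen_univ
  obtain ⟨y, rfl⟩ := QMap.exists_point (chart := chart) U hU x hxU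
  obtain ⟨t, ht, hty⟩ := irr_le_span hgen U hU y
  obtain ⟨e, he⟩ := exists_frame_of_dvd hL hU ht (by simp)
  exact ⟨_, e, ⟨y, (Proj.mem_basicOpen _ _ _).2 hty, rfl⟩, he⟩

/-- A common period over a quasi-compact open. -/
theorem exists_period (q : P ⟶ S)
    {chart : ∀ (U : S.Opens) (hU : IsAffineOpen U), (((q ⁻¹ᵁ U : P.Opens) : Scheme.{u}) ≅ Proj (𝒮.deg U hU))}
    {G : P.Opens} (hG : IsCompact (G : Set P)) :
    ∃ d : ℕ, 0 < d ∧ ∀ x ∈ G, ∃ (U : S.Opens) (hU : IsAffineOpen U) (d' : ℕ) (f : 𝒮.presheaf.obj (op U)),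
      f ∈ 𝒮.deg U hU d' ∧ d' ∣ d ∧ x ∈ RelProj.emb q chart U hU ''ᵁ Proj.basicOpen (𝒮.deg U hU) f := by
  classical
  have hloc : ∀ x : G, ∃ (U : S.affineOpens) (d' : ℕ) (f : 𝒮.presheaf.obj (op U.1)),
      0 < d' ∧ f ∈ 𝒮.deg U.1 U.2 d' ∧ x.1 ∈ RelProj.emb q chart U.1 U.2 ''ᵁ Proj.basicOpen (𝒮.deg U.1 U.2) f := by
    intro x
    obtain ⟨_, ⟨U, hU, rfl⟩, hxU, -⟩ :=
      S.isBasis_affineOpens.exists_subset_of_mem_open (Set.mem_univ (q x.1)) isOpen_univ
    obtain ⟨y, hy⟩ := QMap.exists_point (chart := chart) U hU x.1 hxU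
    obtain ⟨g, hg, hgy⟩ := SetLike.not_le_iff_exists.1 y.not_irrelevant_le
    obtain ⟨i, hi, hgi⟩ : ∃ i, 0 < i ∧ GradedRing.proj (𝒮.deg U hU) i g ∉ y.asHomogeneousIdeal := by
      by_contra hc
      push Not at hc
      refine hgy ?_
      rw [← DirectSum.sum_support_decompose (𝒮.deg U hU) g]
      refine Ideal.sum_mem _ fun i _ => ?_
      rcases Nat.eq_zero_or_pos i with rfl | hpos
      · rw [show ((DirectSum.decompose (𝒮.deg U hU) g 0 : 𝒮.deg U hU 0) : 𝒮.presheaf.obj (op U)) = 0 from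
          (HomogeneousIdeal.mem_irrelevant_iff _ _).1 hg]
        exact zero_mem _
      · exact hc i hpos
    exact ⟨⟨U, hU⟩, i, GradedRing.proj (𝒮.deg U hU) i g, hi, SetLike.coe_mem _, y,
      (Proj.mem_basicOpen _ _ _).2 hgi, hy⟩
  choose U d' f hd hf hx using hloc
  obtain ⟨T, hT⟩ := hG.elim_finite_subcover
    (fun x : G => ((RelProj.emb q chart (U x).1 (U x).2 ''ᵁ Proj.basicOpen (𝒮.deg (U x).1 (U x).2) (f x) : P.Opens) : Set P))
    (fun x => Opens.isOpen _) fun x hxG => Set.mem_iUnion.2 ⟨⟨x, hxG⟩, hx ⟨x, hxG⟩⟩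
  refine ⟨∏ x ∈ T, d' x, Finset.prod_pos fun x _ => hd x, fun x hxG => ?_⟩
  obtain ⟨z, hz, hxz⟩ := Set.mem_iUnion₂.1 (hT hxG)
  exact ⟨_, (U z).2, d' z, f z, hf z, Finset.dvd_prod_of_mem d' hz, hxz⟩

end twist

end Groth.L18.RelTilde
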