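import Groth.Agent.L18.RelTilde.Data
import Groth.Agent.L16.QCohSections

/-!
# The local data of a quasi-coherent graded module, and of the algebra itself
-/

set_option autoImplicit false

noncomputable section

universe u

open CategoryTheory CategoryTheory.Limits AlgebraicGeometry TopologicalSpace Opposite
open Groth.L18

namespace Groth.L18.RelTilde

variable {S : Scheme.{u}} (𝒮 : RelProj.QCGrAlg S)

theorem res_isUnit (U : S.Opens) (hU : IsAffineOpen U) (r : Γ(S, U)) :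
    IsUnit (𝒮.res hU (hU.basicOpen r) (S.basicOpen_le r) ((𝒮.str.app (op U)).hom r)) := by
  let _inst := (𝒮.presheaf.map (homOfLE (S.basicOpen_le r)).op).hom.toAlgebra
  have := 𝒮.isQC U hU r
  exact IsLocalization.Away.algebraMap_isUnit ((𝒮.str.app (op U)).hom r)

theorem res_surj (U : S.Opens) (hU : IsAffineOpen U) (r : Γ(S, U)) (b : 𝒮.presheaf.obj (op (S.basicOpen r))) :
    ∃ (k : ℕ) (a : 𝒮.presheaf.obj (op U)), 𝒮.res hU (hU.basicOpen r) (S.basicOpen_le r) ((𝒮.str.app (op U)).hom r) ^ k * b =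
      𝒮.res hU (hU.basicOpen r) (S.basicOpen_le r) a := by
  let _inst := (𝒮.presheaf.map (homOfLE (S.basicOpen_le r)).op).hom.toAlgebra
  have := 𝒮.isQC U hU r
  obtain ⟨k, a, ha⟩ := IsLocalization.Away.surj ((𝒮.str.app (op U)).hom r) b
  exact ⟨k, a, (mul_comm _ _).trans ha⟩

theorem res_ker (U : S.Opens) (hU : IsAffineOpen U) (r : Γ(S, U)) (a : 𝒮.presheaf.obj (op U))
    (ha : 𝒮.res hU (hU.basicOpen r) (S.basicOpen_le r) a = 0) :
    ∃ k : ℕ, ((𝒮.str.app (op U)).hom r) ^ k * a = 0 := by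
  let _inst := (𝒮.presheaf.map (homOfLE (S.basicOpen_le r)).op).hom.toAlgebra
  have := 𝒮.isQC U hU r
  obtain ⟨⟨_, k, rfl⟩, hk⟩ := (IsLocalization.map_eq_zero_iff (Submonoid.powers ((𝒮.str.app (op U)).hom r))
    (𝒮.presheaf.obj (op (S.basicOpen r))) a).mp ha
  exact ⟨k, hk⟩

/-- Restriction as a semilinear map. -/
def selfRes {U V : S.Opens} (hU : IsAffineOpen U) (hV : IsAffineOpen V) (i : V ≤ U) :
    𝒮.presheaf.obj (op U) →ₛₗ[(𝒮.res hU hV i).toRingHom] 𝒮.presheaf.obj (op V) where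
  toFun x := 𝒮.res hU hV i x
  map_add' := map_add _
  map_smul' c x := map_mul (𝒮.res hU hV i) c x

/-- The data of the algebra as a module over itself. -/
def selfData : Data 𝒮 where
  M U _ := 𝒮.presheaf.obj (op U)
  deg := 𝒮.deg
  decomp U hU := (inferInstance : GradedRing (𝒮.deg U hU)).toDecomposition
  gradedSMul U hU := ⟨fun _ _ _ _ hi hj => SetLike.mul_mem_graded hi hj⟩
  res := selfRes 𝒮
  res_mem hU hV i _ _ hm := (𝒮.res hU hV i).2 hm
  res_comp hU hV hW i j m :=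
    (congrArg (fun g : 𝒮.deg _ hU →+*ᵍ 𝒮.deg _ hW => g m) (RP.res_comp 𝒮 hU hV hW i j)).symm
  loc U hU r :=
    { mem := 𝒮.str_mem U hU r
      isUnit := res_isUnit 𝒮 U hU r
      surj := res_surj 𝒮 U hU r
      ker := res_ker 𝒮 U hU r
      surjM := res_surj 𝒮 U hU r
      kerM := res_ker 𝒮 U hU r }

variable {𝒮}
variable (ℳ : RelProj.GrModule 𝒮) [Coh.IsQCoh ((AMod.toOS 𝒮.toQCAlg).obj ℳ.mod)]

theorem modRes_surj (U : S.Opens) (hU : IsAffineOpen U) (r : Γ(S, U)) (y : ℳ.mod.val.obj (op (S.basicOpen r))) :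
    ∃ (k : ℕ) (m : ℳ.mod.val.obj (op U)),
      𝒮.res hU (hU.basicOpen r) (S.basicOpen_le r) ((𝒮.str.app (op U)).hom r) ^ k • y =
        ℳ.res hU (hU.basicOpen r) (S.basicOpen_le r) m := by
  obtain ⟨k, t, ht⟩ := Groth.L16.QCohSect.exists_pow_smul_eq_res hU ((AMod.toOS 𝒮.toQCAlg).obj ℳ.mod) r
    (show Γ((AMod.toOS 𝒮.toQCAlg).obj ℳ.mod, S.basicOpen r) from y)
  refine ⟨k, t, Eq.trans ?_ ht.symm⟩
  show _ = ((𝒮.str.app (op (S.basicOpen r))).hom ((S.presheaf.map (homOfLE (S.basicOpen_le r)).op).hom (r ^ k))) • y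
  refine congrArg (· • y) ?_
  rw [← map_pow, ← map_pow]
  exact (ConcreteCategory.congr_hom (𝒮.str.naturality (homOfLE (S.basicOpen_le r)).op) (r ^ k)).symm

theorem modRes_ker (U : S.Opens) (hU : IsAffineOpen U) (r : Γ(S, U)) (m : ℳ.mod.val.obj (op U))
    (hm : ℳ.res hU (hU.basicOpen r) (S.basicOpen_le r) m = 0) :
    ∃ k : ℕ, ((𝒮.str.app (op U)).hom r) ^ k • m = 0 := by
  obtain ⟨k, hk⟩ := Groth.L16.QCohSect.exists_pow_smul_eq_zero hU ((AMod.toOS 𝒮.toQCAlg).obj ℳ.mod) r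
    (show Γ((AMod.toOS 𝒮.toQCAlg).obj ℳ.mod, U) from m) hm
  refine ⟨k, Eq.trans ?_ hk⟩
  show _ = ((𝒮.str.app (op U)).hom (r ^ k)) • m
  rw [map_pow]

/-- The data of a quasi-coherent graded module. -/
def modData : Data 𝒮 where
  M U _ := ℳ.mod.val.obj (op U)
  deg := ℳ.deg
  decomp := ℳ.decomp
  gradedSMul := ℳ.gradedSMul
  res := ℳ.res
  res_mem := ℳ.res_mem
  res_comp hU hV hW i j m := by
    rw [RelProj.GrModule.res_apply, RelProj.GrModule.res_apply, RelProj.GrModule.res_apply,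
      show (homOfLE (j.trans i)).op = (homOfLE i).op ≫ (homOfLE j).op from rfl, PresheafOfModules.map_comp]
    rfl
  loc U hU r :=
    { mem := 𝒮.str_mem U hU r
      isUnit := res_isUnit 𝒮 U hU r
      surj := res_surj 𝒮 U hU r
      ker := res_ker 𝒮 U hU r
      surjM := modRes_surj ℳ U hU r
      kerM := modRes_ker ℳ U hU r }

end Groth.L18.RelTilde
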