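import Groth.Agent.L18.RelTilde.Hom
import Groth.Agent.L18.RelTilde.Inst
import Groth.Prelude.Def_RelProj2

/-!
# Existence and functoriality of `ℳ(n)~` and `O(n)` on a relative `Proj`
-/

set_option autoImplicit false

noncomputable section

universe u

open CategoryTheory CategoryTheory.Limits AlgebraicGeometry TopologicalSpace Opposite
open scoped HomogeneousIdeal
open Groth.L18

namespace Groth.L18.RelTilde

variable {S P : Scheme.{u}} {𝒮 : RelProj.QCGrAlg S} {p : P ⟶ S}
  {chart : ∀ (U : S.Opens) (hU : IsAffineOpen U), (((p ⁻¹ᵁ U : P.Opens) : Scheme.{u}) ≅ Proj (𝒮.deg U hU))} {n : ℤ}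

/-- The two comparison maps agree. -/
theorem locModMap_self {U V : S.Opens} (hU : IsAffineOpen U) (hV : IsAffineOpen V) (i : V ≤ U)
    (hψ : (𝒮.deg V hV)₊ ≤ ((𝒮.deg U hU)₊).map (𝒮.res hU hV i))
    (y : ProjectiveSpectrum (𝒮.deg V hV)) (q : GrTwist.Loc (𝒮.deg U hU) (ProjectiveSpectrum.comap (𝒮.res hU hV i) hψ y)) :
    GrMod.locModMap (𝒮.res hU hV i) hψ (selfRes 𝒮 hU hV i) y q = GrTwist.locMap (𝒮.res hU hV i) hψ y q := by
  induction q using Localization.induction_on with
  | H z =>
    obtain ⟨a, s⟩ := z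
    rw [GrTwist.locMap_mk]
    exact GrMod.locModMap_mk _ _ _ y a s

section twist

variable {L : P.Modules} {lam : ∀ (U : S.Opens) (hU : IsAffineOpen U),
  L ⟶ (Scheme.Modules.pushforward (RelProj.emb p chart U hU)).obj (GrTwist.twist (𝒮.deg U hU) n)}

/-- The chart maps of a twisting sheaf, read as maps to the modules of `selfData`. -/
def lamT (lam : ∀ (U : S.Opens) (hU : IsAffineOpen U),
    L ⟶ (Scheme.Modules.pushforward (RelProj.emb p chart U hU)).obj (GrTwist.twist (𝒮.deg U hU) n))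
    (U : S.Opens) (hU : IsAffineOpen U) : L ⟶ (selfData 𝒮).G p chart n U hU :=
  lam U hU

/-- Reading the values. -/
theorem lamT_val (U : S.Opens) (hU : IsAffineOpen U) (W : P.Opens) (s : Γ(L, W))
    (x : (RelProj.emb p chart U hU ⁻¹ᵁ W : (Proj (𝒮.deg U hU)).Opens)) :
    GrMod.val (V := RelProj.emb p chart U hU ⁻¹ᵁ W) ((lamT lam U hU).app W s) x =
      GrTwist.val (V := RelProj.emb p chart U hU ⁻¹ᵁ W) ((lam U hU).app W s) x := rfl

theorem isRel_of_isRelTwist (h : RelProj.IsRelTwist 𝒮 p chart n L lam) :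
    (selfData 𝒮).IsRel p chart n L (lamT lam) where
  bijective := h.bijective
  compat U hU r W s y hy hy' := by
    rw [lamT_val, lamT_val]
    exact (h.compat U hU r W s y hy hy').trans (locModMap_self hU _ _ _ y _).symm

theorem isRelTwist_of_isRel (h : (selfData 𝒮).IsRel p chart n L (lamT lam)) :
    RelProj.IsRelTwist 𝒮 p chart n L lam where
  bijective := h.bijective
  compat U hU r W s y hy hy' := by
    rw [← lamT_val, ← lamT_val]
    exact (h.compat U hU r W s y hy hy').trans (locModMap_self hU _ _ _ y _)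

end twist

section tilde

variable (ℳ : RelProj.GrModule 𝒮) [Coh.IsQCoh ((AMod.toOS 𝒮.toQCAlg).obj ℳ.mod)] {F : P.Modules}
  {lam : ∀ (U : S.Opens) (hU : IsAffineOpen U),
    F ⟶ (Scheme.Modules.pushforward (RelProj.emb p chart U hU)).obj (GrMod.tilde (𝒮.deg U hU) (ℳ.deg U hU) n)}

theorem isRel_of_isRelTilde (h : RelProj.IsRelTilde 𝒮 p chart ℳ n F lam) :
    (modData ℳ).IsRel p chart n F lam where
  bijective := h.bijective
  compat := h.compat

theorem isRelTilde_of_isRel (h : (modData ℳ).IsRel p chart n F lam) :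
    RelProj.IsRelTilde 𝒮 p chart ℳ n F lam where
  bijective := h.bijective
  compat := h.compat

variable (𝒩 : RelProj.GrModule 𝒮) [Coh.IsQCoh ((AMod.toOS 𝒮.toQCAlg).obj 𝒩.mod)]

theorem isNat_map (hP : RelProj.IsRelProj 𝒮 p chart) (u : ℳ.mod ⟶ 𝒩.mod) (hu : RelProj.IsGrModHom u) (n : ℤ) :
    Data.IsNat (D := modData ℳ) (D' := modData 𝒩) (n := n) (n' := n) (p := p) (chart := chart)
      fun U hU => GrMod.map (𝒮.deg U hU)
        (show ℳ.mod.val.obj (op U) →ₗ[𝒮.presheaf.obj (op U)] 𝒩.mod.val.obj (op U) from (u.val.app (op U)).hom)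
        (hu U hU) n := by
  refine Data.isNat_of_val _ (fun U _ x => GrMod.locMap
    (show ℳ.mod.val.obj (op U) →ₗ[𝒮.presheaf.obj (op U)] 𝒩.mod.val.obj (op U) from (u.val.app (op U)).hom) x)
    (fun U hU V s x => rfl) (fun U E h y q => ?_) hP
  induction q using LocalizedModule.induction_on with
  | h m s =>
    erw [GrMod.locMap_mk, GrMod.locModMap_mk, GrMod.locModMap_mk, GrMod.locMap_mk]
    congr 1
    exact (PresheafOfModules.naturality_apply u.val (homOfLE h.le).op m).symm

end tilde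

end Groth.L18.RelTilde
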