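import Groth.Agent.L18.RelTilde.Rel
import Groth.Agent.L18.GrMod.QCoh
import Groth.Agent.L21.Mod.Locality
import Groth.Agent.L00.LocalData

/-!
# The chartwise restrictions of a module glued from local data
-/

set_option autoImplicit false

noncomputable section

universe u

open CategoryTheory CategoryTheory.Limits AlgebraicGeometry TopologicalSpace Opposite
open Groth.L18

namespace Groth.L18.RelTilde

section Adjoint

variable {X Y : Scheme.{u}} (j : Y ⟶ X) [IsOpenImmersion j]

/-- A map to a direct image which is bijective below the image is a restriction isomorphism. -/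
theorem isIso_adjoint {M : X.Modules} {N : Y.Modules} (l : M ⟶ (Scheme.Modules.pushforward j).obj N)
    (h : ∀ W : X.Opens, W ≤ j.opensRange → Function.Bijective (l.app W)) :
    IsIso (((Scheme.Modules.restrictAdjunction j).homEquiv M N).symm l) := by
  rw [Adjunction.homEquiv_counit]
  haveI : IsIso ((Scheme.Modules.restrictFunctor j).map l) := by
    rw [Scheme.Modules.Hom.isIso_iff_isIso_app]
    intro V
    haveI : IsIso (l.app (j ''ᵁ V)) :=
      (ConcreteCategory.isIso_iff_bijective _).2 (h _ (j.image_le_opensRange V))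
    exact inferInstanceAs (IsIso (l.app (j ''ᵁ V)))
  infer_instance

/-- Quasi-coherence may be tested on a cover by open immersions. -/
theorem isQCoh_of_immersions {ι : Type*} {Z : ι → Scheme.{u}} (e : ∀ i, Z i ⟶ X) [∀ i, IsOpenImmersion (e i)]
    (he : ∀ x : X, ∃ i z, e i z = x) (M : X.Modules) (h : ∀ i, Coh.IsQCoh (M.restrict (e i))) : Coh.IsQCoh M := by
  refine Groth.L00.Local.isQCoh_of_tilde_charts _ fun x => ?_
  obtain ⟨i, z, rfl⟩ := he x
  haveI := h i
  obtain ⟨_, ⟨W, hW, rfl⟩, hzW, -⟩ := (Z i).isBasis_affineOpens.exists_subset_of_mem_open (Set.mem_univ z) isOpen_univ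
  obtain ⟨N, ⟨φ⟩⟩ := Groth.L00.Local.exists_tilde_iso_restrict hW.fromSpec (M.restrict (e i))
  obtain ⟨y, hy⟩ := hW.opensRange_fromSpec.ge hzW
  refine ⟨_, hW.fromSpec ≫ e i, inferInstance, N, ⟨y, ?_⟩, ⟨(Scheme.Modules.restrictFunctorComp _ _).app M ≪≫ φ⟩⟩
  change (e i).base (hW.fromSpec.base y) = _
  rw [hy]

end Adjoint

namespace Data

variable {S P : Scheme.{u}} {𝒮 : RelProj.QCGrAlg S} {D : Data 𝒮} {p : P ⟶ S}
  {chart : ∀ (U : S.Opens) (hU : IsAffineOpen U), (((p ⁻¹ᵁ U : P.Opens) : Scheme.{u}) ≅ Proj (𝒮.deg U hU))} {n : ℤ}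
  {F : P.Modules} {l : ∀ (U : S.Opens) (hU : IsAffineOpen U), F ⟶ D.G p chart n U hU}

/-- The chart maps, read on the chart. -/
abbrev resHom (l : ∀ (U : S.Opens) (hU : IsAffineOpen U), F ⟶ D.G p chart n U hU) (U : S.Opens) (hU : IsAffineOpen U) :
    (Scheme.Modules.restrictFunctor (RelProj.emb p chart U hU)).obj F ⟶ D.T U hU n :=
  ((Scheme.Modules.restrictAdjunction (RelProj.emb p chart U hU)).homEquiv F (D.T U hU n)).symm (l U hU)

theorem isIso_resHom (hF : D.IsRel p chart n F l) (U : S.Opens) (hU : IsAffineOpen U) : IsIso (resHom l U hU) :=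
  isIso_adjoint _ _ fun W hW => hF.bijective U hU W (hW.trans (RP.opensRange_emb U hU).le)

/-- The restriction to a chart. -/
def resIso (hF : D.IsRel p chart n F l) (U : S.Opens) (hU : IsAffineOpen U) :
    F.restrict (RelProj.emb p chart U hU) ≅ D.T U hU n :=
  haveI := isIso_resHom hF U hU
  asIso (resHom l U hU)

variable (p chart) in
theorem exists_emb (x : P) :
    ∃ (U : S.affineOpens) (y : ↥(Proj (𝒮.deg U.1 U.2))), RelProj.emb p chart U.1 U.2 y = x := by
  obtain ⟨_, ⟨U, hU, rfl⟩, hxU, -⟩ :=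
    S.isBasis_affineOpens.exists_subset_of_mem_open (Set.mem_univ (p x)) isOpen_univ
  exact ⟨⟨U, hU⟩, (RP.opensRange_emb (chart := chart) U hU).ge hxU⟩

variable {n' : ℤ} {D' : Data 𝒮} {F' : P.Modules}
  {l' : ∀ (U : S.Opens) (hU : IsAffineOpen U), F' ⟶ D'.G p chart n' U hU}

/-- Naturality of the restriction to a chart. -/
theorem resHom_natural {U : S.Opens} {hU : IsAffineOpen U} (g : D.T U hU n ⟶ D'.T U hU n') (f : F ⟶ F')
    (h : f ≫ l' U hU = l U hU ≫ (Scheme.Modules.pushforward (RelProj.emb p chart U hU)).map g) :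
    (Scheme.Modules.restrictFunctor (RelProj.emb p chart U hU)).map f ≫ resHom l' U hU = resHom l U hU ≫ g := by
  rw [resHom, resHom, ← Adjunction.homEquiv_naturality_left_symm, ← Adjunction.homEquiv_naturality_right_symm]
  exact congrArg _ h

variable (f : F ⟶ F') (g : ∀ (U : S.Opens) (hU : IsAffineOpen U), D.T U hU n ⟶ D'.T U hU n')
  (hF : D.IsRel p chart n F l) (hF' : D'.IsRel p chart n' F' l')
  (h : ∀ (U : S.Opens) (hU : IsAffineOpen U),
    f ≫ l' U hU = l U hU ≫ (Scheme.Modules.pushforward (RelProj.emb p chart U hU)).map (g U hU))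

include hF hF' h in
theorem mono_of_charts (hg : ∀ (U : S.Opens) (hU : IsAffineOpen U), Mono (g U hU)) : Mono f := by
  refine Groth.L21.Mod.mono_of_restrict (fun U : S.affineOpens => RelProj.emb p chart U.1 U.2) (exists_emb p chart) f
    fun U => ?_
  haveI := hg U.1 U.2
  haveI := isIso_resHom hF U.1 U.2
  exact mono_of_mono_fac (resHom_natural (g U.1 U.2) f (h U.1 U.2))

include hF hF' h in
theorem epi_of_charts (hg : ∀ (U : S.Opens) (hU : IsAffineOpen U), Epi (g U hU)) : Epi f := by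
  refine Groth.L21.Mod.epi_of_restrict (fun U : S.affineOpens => RelProj.emb p chart U.1 U.2) (exists_emb p chart) f
    fun U => ?_
  haveI := hg U.1 U.2
  haveI := isIso_resHom hF U.1 U.2
  haveI := isIso_resHom hF' U.1 U.2
  rw [(IsIso.eq_comp_inv _).2 (resHom_natural (g U.1 U.2) f (h U.1 U.2))]
  infer_instance

variable {n'' : ℤ} {D'' : Data 𝒮} {F'' : P.Modules}
  {l'' : ∀ (U : S.Opens) (hU : IsAffineOpen U), F'' ⟶ D''.G p chart n'' U hU}
  (f' : F' ⟶ F'') (g' : ∀ (U : S.Opens) (hU : IsAffineOpen U), D'.T U hU n' ⟶ D''.T U hU n'')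
  (hF'' : D''.IsRel p chart n'' F'' l'')
  (h' : ∀ (U : S.Opens) (hU : IsAffineOpen U),
    f' ≫ l'' U hU = l' U hU ≫ (Scheme.Modules.pushforward (RelProj.emb p chart U hU)).map (g' U hU))

include hF hF' hF'' h h' in
theorem exact_of_charts (w : f ≫ f' = 0)
    (hg : ∀ (U : S.Opens) (hU : IsAffineOpen U) (w' : g U hU ≫ g' U hU = 0), (ShortComplex.mk _ _ w').Exact) :
    (ShortComplex.mk f f' w).Exact := by
  refine Groth.L21.Mod.exact_of_restrict (fun U : S.affineOpens => RelProj.emb p chart U.1 U.2) (exists_emb p chart) _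
    fun U => ?_
  haveI := isIso_resHom hF U.1 U.2
  haveI := isIso_resHom hF' U.1 U.2
  haveI := isIso_resHom hF'' U.1 U.2
  have e₁ := resHom_natural (g U.1 U.2) f (h U.1 U.2)
  have e₂ := resHom_natural (g' U.1 U.2) f' (h' U.1 U.2)
  have w' : g U.1 U.2 ≫ g' U.1 U.2 = 0 := by
    rw [← cancel_epi (resHom l U.1 U.2), ← Category.assoc, ← e₁, Category.assoc, ← e₂, ← Category.assoc,
      ← Functor.map_comp, w, Functor.map_zero, Limits.zero_comp, comp_zero]
  exact ShortComplex.exact_of_iso (ShortComplex.isoMk (resIso hF U.1 U.2) (resIso hF' U.1 U.2)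
    (resIso hF'' U.1 U.2) e₁.symm e₂.symm).symm (hg U.1 U.2 w')

include hF in
theorem IsRel.isQCoh : Coh.IsQCoh F := by
  refine isQCoh_of_immersions (fun U : S.affineOpens => RelProj.emb p chart U.1 U.2) (exists_emb p chart) F fun U => ?_
  exact (SheafOfModules.isQuasicoherent (Proj (𝒮.deg U.1 U.2)).ringCatSheaf).prop_of_iso (resIso hF U.1 U.2).symm
    (GrM.isQCoh_tilde (𝒮.deg U.1 U.2) (D.deg U.1 U.2) n)

include hF in
theorem IsRel.isZero (h0 : ∀ (U : S.Opens) (hU : IsAffineOpen U), IsZero (D.T U hU n)) : IsZero F :=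
  Groth.L21.Mod.isZero_of_restrict (fun U : S.affineOpens => RelProj.emb p chart U.1 U.2) (exists_emb p chart) F
    fun U => (h0 U.1 U.2).of_iso (resIso hF U.1 U.2)

end Data

end Groth.L18.RelTilde
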