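import Groth.Prelude.Def_RelProj3

/-!
# `M(n)~` along the localization of a graded ring and module at a degree-zero element
-/

set_option autoImplicit false

noncomputable section

universe u

open CategoryTheory AlgebraicGeometry TopologicalSpace Opposite
open scoped HomogeneousIdeal

namespace Groth.L18.RelTilde

variable {A σ : Type u} [CommRing A] [SetLike σ A] [AddSubgroupClass σ A] {𝒜 : ℕ → σ} [GradedRing 𝒜]
variable {M τ : Type u} [AddCommGroup M] [Module A M] [SetLike τ M] [AddSubgroupClass τ M] {ℳ : ℕ → τ}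
variable {B σ' : Type u} [CommRing B] [SetLike σ' B] [AddSubgroupClass σ' B] {ℬ : ℕ → σ'} [GradedRing ℬ]
variable {N τ' : Type u} [AddCommGroup N] [Module B N] [SetLike τ' N] [AddSubgroupClass τ' N] {𝒩 : ℕ → τ'}

/-- A `ψ`-semilinear map commutes with taking homogeneous components. -/
theorem map_component [DirectSum.Decomposition ℳ] [DirectSum.Decomposition 𝒩] {ρ : A →+* B} (v : M →ₛₗ[ρ] N)
    (hv : ∀ (i : ℕ) (m : M), m ∈ ℳ i → v m ∈ 𝒩 i) (m : M) (i : ℕ) :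
    v (DirectSum.decompose ℳ m i : M) = (DirectSum.decompose 𝒩 (v m) i : N) := by
  classical
  induction m using DirectSum.Decomposition.inductionOn ℳ with
  | zero => simp
  | homogeneous x =>
    rename_i k
    rcases eq_or_ne k i with rfl | h
    · rw [DirectSum.decompose_of_mem_same ℳ x.2, DirectSum.decompose_of_mem_same 𝒩 (hv k _ x.2)]
    · rw [DirectSum.decompose_of_mem_ne ℳ x.2 h, DirectSum.decompose_of_mem_ne 𝒩 (hv k _ x.2) h, map_zero]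
  | add a b ha hb =>
    simp only [DirectSum.decompose_add, DirectSum.add_apply, AddMemClass.coe_add, map_add, ha, hb]

/-- The pair `(ψ, v)` is the localization at the degree-zero element `r`. -/
structure IsLoc (ψ : 𝒜 →+*ᵍ ℬ) (v : M →ₛₗ[ψ.toRingHom] N) (r : A) : Prop where
  mem : r ∈ 𝒜 0
  isUnit : IsUnit (ψ r)
  surj : ∀ b : B, ∃ (k : ℕ) (a : A), ψ r ^ k * b = ψ a
  ker : ∀ a : A, ψ a = 0 → ∃ k : ℕ, r ^ k * a = 0
  surjM : ∀ y : N, ∃ (k : ℕ) (m : M), ψ r ^ k • y = v m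
  kerM : ∀ m : M, v m = 0 → ∃ k : ℕ, r ^ k • m = 0

variable {ψ : 𝒜 →+*ᵍ ℬ} {v : M →ₛₗ[ψ.toRingHom] N} {r : A}

theorem IsLoc.pow_mul_mem (h : IsLoc ψ v r) (k : ℕ) {i : ℕ} {b : B} (hb : b ∈ ℬ i) : ψ r ^ k * b ∈ ℬ i := by
  have := SetLike.mul_mem_graded (SetLike.pow_mem_graded k (ψ.map_mem h.mem)) hb
  rwa [smul_zero, zero_add] at this

theorem IsLoc.pow_smul_mem [SetLike.GradedSMul ℬ 𝒩] (h : IsLoc ψ v r) (k : ℕ) {i : ℕ} {y : N} (hy : y ∈ 𝒩 i) :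
    ψ r ^ k • y ∈ 𝒩 i := by
  have hk : ψ r ^ k ∈ ℬ 0 := by simpa using SetLike.pow_mem_graded k (ψ.map_mem h.mem)
  simpa using (SetLike.GradedSMul.smul_mem hk hy : ψ r ^ k • y ∈ 𝒩 (0 + i))

theorem IsLoc.exists_hom (h : IsLoc ψ v r) {i : ℕ} {b : B} (hb : b ∈ ℬ i) :
    ∃ (k : ℕ) (a : A), a ∈ 𝒜 i ∧ ψ r ^ k * b = ψ a := by
  classical
  obtain ⟨k, a, ha⟩ := h.surj b
  refine ⟨k, DirectSum.decompose 𝒜 a i, SetLike.coe_mem _, ?_⟩
  let w : A →ₛₗ[ψ.toRingHom] B :=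
    { toFun := ψ, map_add' := map_add ψ, map_smul' := fun c x => map_mul ψ c x }
  show _ = w (DirectSum.decompose 𝒜 a i : A)
  rw [map_component w (fun i x hx => ψ.map_mem hx), show w a = ψ r ^ k * b from ha.symm,
    DirectSum.decompose_of_mem_same _ (h.pow_mul_mem k hb)]

theorem IsLoc.exists_homM [DirectSum.Decomposition ℳ] [DirectSum.Decomposition 𝒩] [SetLike.GradedSMul ℬ 𝒩]
    (h : IsLoc ψ v r) (hv : ∀ (i : ℕ) (m : M), m ∈ ℳ i → v m ∈ 𝒩 i) {i : ℕ} {y : N} (hy : y ∈ 𝒩 i) :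
    ∃ (k : ℕ) (m : M), m ∈ ℳ i ∧ ψ r ^ k • y = v m := by
  obtain ⟨k, m, hm⟩ := h.surjM y
  refine ⟨k, DirectSum.decompose ℳ m i, SetLike.coe_mem _, ?_⟩
  rw [map_component v hv, ← hm, DirectSum.decompose_of_mem_same _ (h.pow_smul_mem k hy)]

theorem IsLoc.notMem (h : IsLoc ψ v r) (hψ : ℬ₊ ≤ (𝒜₊).map ψ) (y : ProjectiveSpectrum ℬ) (k : ℕ) {b : B}
    (hb : b ∉ y.asHomogeneousIdeal) : ψ r ^ k * b ∉ y.asHomogeneousIdeal := fun hmem =>
  hb ((y.isPrime.mem_or_mem hmem).resolve_left fun hk =>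
    y.isPrime.ne_top (Ideal.eq_top_of_isUnit_mem _ hk (h.isUnit.pow k)))

theorem IsLoc.locModMap_injective (h : IsLoc ψ v r) (hψ : ℬ₊ ≤ (𝒜₊).map ψ) (y : ProjectiveSpectrum ℬ) :
    Function.Injective (GrMod.locModMap ψ hψ v y) := by
  rw [injective_iff_map_eq_zero]
  intro q hq
  induction q using LocalizedModule.induction_on with
  | h m s =>
    rw [GrMod.locModMap_mk, ← LocalizedModule.zero_mk ⟨ψ (s : A), s.2⟩, LocalizedModule.mk_eq] at hq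
    obtain ⟨⟨c, hc⟩, he⟩ := hq
    simp only [Submonoid.smul_def, smul_zero, smul_smul] at he
    obtain ⟨k, a, ha⟩ := h.surj (c * ψ (s : A))
    have h0 : v (a • m) = 0 := by
      rw [LinearMap.map_smulₛₗ, show ψ.toRingHom a = ψ a from rfl, ← ha, mul_smul, he, smul_zero]
    obtain ⟨l, hl⟩ := h.kerM _ h0
    have hnot : r ^ l * a ∉ (ProjectiveSpectrum.comap ψ hψ y).asHomogeneousIdeal := by
      show ψ (r ^ l * a) ∉ y.asHomogeneousIdeal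
      rw [map_mul, map_pow, ← ha]
      exact h.notMem hψ y l (h.notMem hψ y k fun hmem => (y.isPrime.mem_or_mem hmem).elim hc s.2)
    rw [← LocalizedModule.zero_mk s, LocalizedModule.mk_eq]
    refine ⟨⟨r ^ l * a, hnot⟩, ?_⟩
    simp only [Submonoid.smul_def, smul_zero, smul_smul]
    rw [mul_comm, mul_smul, mul_smul, hl, smul_zero]

theorem IsLoc.pow_notMem (h : IsLoc ψ v r) (hψ : ℬ₊ ≤ (𝒜₊).map ψ) (y : ProjectiveSpectrum ℬ) (K : ℕ) :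
    ψ r ^ K ∉ y.asHomogeneousIdeal := fun hk =>
  y.isPrime.ne_top (Ideal.eq_top_of_isUnit_mem _ hk (h.isUnit.pow K))

variable [SetLike.GradedSMul 𝒜 ℳ] [SetLike.GradedSMul ℬ 𝒩]
variable [DirectSum.Decomposition ℳ] [DirectSum.Decomposition 𝒩]
variable (hv : ∀ (i : ℕ) (m : M), m ∈ ℳ i → v m ∈ 𝒩 i)

include hv in
/-- A fraction comes from a fraction. -/
theorem IsLoc.exists_frac (h : IsLoc ψ v r) {i j : ℕ} {a : N} (ha : a ∈ 𝒩 i) {t : B} (ht : t ∈ ℬ j) :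
    ∃ (K : ℕ) (m : M) (s : A), m ∈ ℳ i ∧ s ∈ 𝒜 j ∧ ψ s = ψ r ^ K * t ∧ v m = ψ r ^ K • a ∧ (a = 0 → m = 0) := by
  classical
  obtain ⟨k, m, hm, hkm⟩ := h.exists_homM hv ha
  obtain ⟨l, s, hs, hls⟩ := h.exists_hom ht
  have hr : ∀ K : ℕ, r ^ K ∈ 𝒜 0 := fun K => by simpa using SetLike.pow_mem_graded K h.mem
  refine ⟨k + l, if a = 0 then 0 else r ^ l • m, r ^ k * s, ?_, ?_, ?_, ?_, fun h0 => if_pos h0⟩
  · split
    · exact zero_mem _
    · simpa using (SetLike.GradedSMul.smul_mem (hr l) hm : r ^ l • m ∈ ℳ (0 + i))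
  · simpa using SetLike.mul_mem_graded (hr k) hs
  · rw [map_mul, map_pow, ← hls, pow_add, mul_assoc]
  · split
    · next h0 => rw [h0, map_zero, smul_zero]
    · rw [LinearMap.map_smulₛₗ, show ψ.toRingHom (r ^ l) = ψ r ^ l from map_pow ψ r l, ← hkm, smul_smul, ← pow_add,
        add_comm l k]

omit [SetLike.GradedSMul 𝒜 ℳ] [DirectSum.Decomposition ℳ] [DirectSum.Decomposition 𝒩] [SetLike.GradedSMul ℬ 𝒩]
  [SetLike τ M] [AddSubgroupClass τ M] [SetLike τ' N] [AddSubgroupClass τ' N] in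
theorem mk_eq_of_scale {y : ProjectiveSpectrum ℬ} {u : B} (hu : u ∉ y.asHomogeneousIdeal) (a : N) (t : B)
    (ht : t ∉ y.asHomogeneousIdeal) (hut : u * t ∉ y.asHomogeneousIdeal) :
    LocalizedModule.mk a (⟨t, ht⟩ : y.asHomogeneousIdeal.toIdeal.primeCompl) =
      LocalizedModule.mk (u • a) ⟨u * t, hut⟩ := by
  rw [LocalizedModule.mk_eq]
  refine ⟨1, ?_⟩
  simp only [Submonoid.smul_def, OneMemClass.coe_one, one_smul, smul_smul, mul_comm t u]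

include hv in
theorem IsLoc.exists_frac_at (h : IsLoc ψ v r) (hψ : ℬ₊ ≤ (𝒜₊).map ψ) (y : ProjectiveSpectrum ℬ) {i j : ℕ}
    (a : 𝒩 i) (t : ℬ j) (ht : (t : B) ∉ y.asHomogeneousIdeal) :
    ∃ (K : ℕ) (m : ℳ i) (s : 𝒜 j) (hs : (s : A) ∉ (ProjectiveSpectrum.comap ψ hψ y).asHomogeneousIdeal),
      GrMod.locModMap ψ hψ v y (LocalizedModule.mk (m : M) ⟨(s : A), hs⟩) = LocalizedModule.mk (a : N) ⟨(t : B), ht⟩ := by
  obtain ⟨K, m, s, hm, hs, hst, hma, -⟩ := h.exists_frac hv a.2 t.2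
  have hsn : s ∉ (ProjectiveSpectrum.comap ψ hψ y).asHomogeneousIdeal := by
    show ψ s ∉ y.asHomogeneousIdeal
    rw [hst]
    exact h.notMem hψ y K ht
  refine ⟨K, ⟨m, hm⟩, ⟨s, hs⟩, hsn, ?_⟩
  rw [GrMod.locModMap_mk]
  rw [mk_eq_of_scale (u := ψ r ^ K) (h.pow_notMem hψ y K) (a : N) (t : B) ht
    (h.notMem hψ y K ht)]
  simp only [hma]
  congr 1
  exact Subtype.ext hst

include hv in
theorem IsLoc.exists_preimage (h : IsLoc ψ v r) (hψ : ℬ₊ ≤ (𝒜₊).map ψ) (n : ℤ) (y : ProjectiveSpectrum ℬ)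
    {q' : GrMod.LocMod ℬ (M := N) y} (hq' : q' ∈ GrMod.tildeAt ℬ 𝒩 n y) :
    ∃ q ∈ GrMod.tildeAt 𝒜 ℳ n (ProjectiveSpectrum.comap ψ hψ y), GrMod.locModMap ψ hψ v y q = q' := by
  induction hq' using Submodule.span_induction with
  | mem q' hmem =>
    obtain ⟨i, j, a, t, ht, hij, rfl⟩ := hmem
    obtain ⟨K, m, s, hs, he⟩ := h.exists_frac_at hv hψ y a t ht
    exact ⟨_, Submodule.subset_span ⟨i, j, m, s, hs, hij, rfl⟩, he⟩
  | zero => exact ⟨0, zero_mem _, map_zero _⟩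
  | add a b _ _ ha hb =>
    obtain ⟨p, hp, rfl⟩ := ha
    obtain ⟨q, hq, rfl⟩ := hb
    exact ⟨p + q, add_mem hp hq, map_add _ _ _⟩
  | smul c a _ ha =>
    obtain ⟨q, hq, rfl⟩ := ha
    obtain ⟨⟨k, ⟨num, hnum⟩, ⟨den, hden⟩, hden'⟩, rfl⟩ := HomogeneousLocalization.mk_surjective c
    obtain ⟨k₁, a₁, ha₁, e₁⟩ := h.exists_hom hnum
    obtain ⟨k₂, a₂, ha₂, e₂⟩ := h.exists_hom hden
    have hr : ∀ K : ℕ, r ^ K ∈ 𝒜 0 := fun K => by simpa using SetLike.pow_mem_graded K h.mem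
    have hd : r ^ k₁ * a₂ ∉ (ProjectiveSpectrum.comap ψ hψ y).asHomogeneousIdeal := by
      show ψ (r ^ k₁ * a₂) ∉ y.asHomogeneousIdeal
      rw [map_mul, map_pow, ← e₂]
      exact h.notMem hψ y k₁ (h.notMem hψ y k₂ hden')
    let c' : GrTwist.A0 𝒜 (ProjectiveSpectrum.comap ψ hψ y) := HomogeneousLocalization.mk
      ⟨k, ⟨r ^ k₂ * a₁, by simpa using SetLike.mul_mem_graded (hr k₂) ha₁⟩,
        ⟨r ^ k₁ * a₂, by simpa using SetLike.mul_mem_graded (hr k₁) ha₂⟩, hd⟩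
    refine ⟨c' • q, Submodule.smul_mem _ c' hq, ?_⟩
    rw [GrMod.a0_smul_def, GrMod.locModMap_smul, GrMod.a0_smul_def]
    refine congrArg (· • _) ?_
    simp only [c', HomogeneousLocalization.val_mk]
    rw [GrTwist.locMap_mk, Localization.mk_eq_mk_iff, Localization.r_iff_exists]
    refine ⟨1, ?_⟩
    simp only [OneMemClass.coe_one, one_mul, map_mul, map_pow, ← e₁, ← e₂]
    ring

include hv in
/-- Sections pull back bijectively onto an image open. -/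
theorem IsLoc.comapApp_bijective (h : IsLoc ψ v r) (hψ : ℬ₊ ≤ (𝒜₊).map ψ)
    (hinj : Function.Injective (ProjectiveSpectrum.comap ψ hψ))
    (hopen : IsOpenMap (ProjectiveSpectrum.comap ψ hψ)) (n : ℤ) (U : Opens (ProjectiveSpectrum.top 𝒜))
    (V : Opens (ProjectiveSpectrum.top ℬ)) (hUV : V.1 ⊆ ProjectiveSpectrum.comap ψ hψ ⁻¹' U.1)
    (himg : ∀ x ∈ U, ∃ y ∈ V, ProjectiveSpectrum.comap ψ hψ y = x) :
    Function.Bijective (GrMod.comapApp ψ hψ v hv n U V hUV) := by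
  constructor
  · intro s t hst
    refine Subtype.ext (funext fun x => Subtype.ext ?_)
    obtain ⟨y, hy, hyx⟩ := himg x.1 x.2
    obtain ⟨x, hx⟩ := x
    subst hyx
    refine h.locModMap_injective hψ y ?_
    exact congrArg (fun w : GrMod.sect ℬ 𝒩 n (op V) => ((w.1 ⟨y, hy⟩ : GrMod.tildeAt ℬ 𝒩 n y) :
      GrMod.LocMod ℬ (M := N) y)) hst
  · intro s
    have hex : ∀ x : U, ∃ q : GrMod.tildeAt 𝒜 ℳ n x.1, ∀ (y : V) (e : ProjectiveSpectrum.comap ψ hψ y.1 = x.1),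
        GrMod.locModMap ψ hψ v y.1 (e.symm ▸ q).1 = (s.1 y).1 := by
      rintro ⟨x, hx⟩
      obtain ⟨y, hy, rfl⟩ := himg x hx
      obtain ⟨q, hq, hqe⟩ := h.exists_preimage hv hψ n y (s.1 ⟨y, hy⟩).2
      refine ⟨⟨q, hq⟩, ?_⟩
      rintro ⟨y', hy'⟩ e
      obtain rfl := hinj e
      exact hqe
    choose f hf using hex
    have hf' : ∀ (y : V), GrMod.locModMap ψ hψ v y.1 (f ⟨ProjectiveSpectrum.comap ψ hψ y.1, hUV y.2⟩).1 =
        (s.1 y).1 := fun y => hf ⟨_, hUV y.2⟩ y rfl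
    refine ⟨⟨f, ?_⟩, Subtype.ext (funext fun y => Subtype.ext (hf' y))⟩
    rintro ⟨x, hx⟩
    obtain ⟨y, hy, rfl⟩ := himg x hx
    obtain ⟨V', hyV', iV, i, j, ⟨a, ha⟩, ⟨t, ht⟩, tnin, hc, hw⟩ := s.2 ⟨y, hy⟩
    obtain ⟨K, m, c, hm, hc', hct, hma, hzero⟩ := h.exists_frac hv ha ht
    let Ω : Opens (ProjectiveSpectrum.top 𝒜) :=
      ⟨ProjectiveSpectrum.comap ψ hψ '' V'.1, hopen _ V'.2⟩
    have hΩU : Ω ≤ U := by
      rintro _ ⟨z, hz, rfl⟩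
      exact hUV (iV.le hz)
    refine ⟨Ω, ⟨y, hyV', rfl⟩, homOfLE hΩU, i, j, ⟨m, hm⟩, ⟨c, hc'⟩, ?_, ?_, ?_⟩
    · rintro ⟨_, z, hz, rfl⟩
      show ψ c ∉ z.asHomogeneousIdeal
      rw [hct]
      exact h.notMem hψ z K (tnin ⟨z, hz⟩)
    · exact hc.imp id fun h0 => hzero h0
    · rintro ⟨_, z, hz, rfl⟩
      refine h.locModMap_injective hψ z ?_
      refine (hf' ⟨z, iV.le hz⟩).trans ((hw ⟨z, hz⟩).trans ?_)
      rw [GrMod.locModMap_mk]
      rw [mk_eq_of_scale (u := ψ r ^ K) (h.pow_notMem hψ z K) a t (tnin ⟨z, hz⟩)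
        (h.notMem hψ z K (tnin ⟨z, hz⟩))]
      simp only [hma]
      congr 1
      exact Subtype.ext hct.symm

/-- Composition of the maps of localized modules. -/
theorem locModMap_comp {C σ'' : Type u} [CommRing C] [SetLike σ'' C] [AddSubgroupClass σ'' C] {𝒞 : ℕ → σ''}
    [GradedRing 𝒞] {Q : Type u} [AddCommGroup Q] [Module C Q]
    (ψ : 𝒜 →+*ᵍ ℬ) (hψ : ℬ₊ ≤ (𝒜₊).map ψ) (v : M →ₛₗ[ψ.toRingHom] N)
    (ψ' : ℬ →+*ᵍ 𝒞) (hψ' : 𝒞₊ ≤ (ℬ₊).map ψ') (v' : N →ₛₗ[ψ'.toRingHom] Q)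
    (ψ'' : 𝒜 →+*ᵍ 𝒞) (hψ'' : 𝒞₊ ≤ (𝒜₊).map ψ'') (v'' : M →ₛₗ[ψ''.toRingHom] Q)
    (hc : ∀ a, ψ'' a = ψ' (ψ a)) (hcv : ∀ m, v'' m = v' (v m)) (s : ∀ x, GrMod.LocMod 𝒜 (M := M) x)
    (y : ProjectiveSpectrum 𝒞) :
    GrMod.locModMap ψ'' hψ'' v'' y (s (ProjectiveSpectrum.comap ψ'' hψ'' y)) =
      GrMod.locModMap ψ' hψ' v' y (GrMod.locModMap ψ hψ v (ProjectiveSpectrum.comap ψ' hψ' y)
        (s (ProjectiveSpectrum.comap ψ hψ (ProjectiveSpectrum.comap ψ' hψ' y)))) := by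
  have e : ProjectiveSpectrum.comap ψ'' hψ'' y =
      ProjectiveSpectrum.comap ψ hψ (ProjectiveSpectrum.comap ψ' hψ' y) := by
    refine ProjectiveSpectrum.ext (HomogeneousIdeal.ext' fun i x _ => ?_)
    show ψ'' x ∈ y.asHomogeneousIdeal ↔ ψ' (ψ x) ∈ y.asHomogeneousIdeal
    rw [hc]
  have tr : ∀ (x : ProjectiveSpectrum 𝒜) (_ : ProjectiveSpectrum.comap ψ'' hψ'' y = x) (m : M)
      (c : x.asHomogeneousIdeal.toIdeal.primeCompl) (hc'' : ψ'' (c : A) ∉ y.asHomogeneousIdeal),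
      s x = LocalizedModule.mk m c →
      GrMod.locModMap ψ'' hψ'' v'' y (s (ProjectiveSpectrum.comap ψ'' hψ'' y)) =
        LocalizedModule.mk (v'' m) ⟨ψ'' (c : A), hc''⟩ := by
    rintro x rfl m c hc'' hx
    rw [hx, GrMod.locModMap_mk]
  generalize hq : s (ProjectiveSpectrum.comap ψ hψ (ProjectiveSpectrum.comap ψ' hψ' y)) = q
  induction q using LocalizedModule.induction_on with
  | h m c =>
    have hc'' : ψ'' (c : A) ∉ y.asHomogeneousIdeal := by rw [hc]; exact c.2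
    rw [tr _ e m c hc'' hq, GrMod.locModMap_mk, GrMod.locModMap_mk]
    simp only [hcv]
    congr 1
    exact Subtype.ext (hc c)

end Groth.L18.RelTilde
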