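import Groth.Agent.L18.RelTilde.CompareMap
import Groth.Agent.L18.IsoCover
import Groth.Agent.L18.RelProj.Props

/-!
# `h^* O_A(n) ≅ O_B(n)` when `𝒜` is generated in degree one
-/

set_option autoImplicit false

noncomputable section

universe u

open CategoryTheory AlgebraicGeometry TopologicalSpace Opposite
open scoped HomogeneousIdeal
open Groth.L18
open Groth.L18.Frame (rs rs_rs rs_self IsFrame)

namespace Groth.L18.RelTilde

section Adjunct

variable {X Y : Scheme.{u}} (f : X ⟶ Y) {M : Y.Modules} {N : X.Modules}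

/-- A map to a direct image carrying frames to frames has an invertible adjunct. -/
theorem isIso_adjunct_of_frames (θ : M ⟶ (Scheme.Modules.pushforward f).obj N)
    (h : ∀ x : X, ∃ (V : Y.Opens) (e : Γ(M, V)), f.base x ∈ V ∧ IsFrame M V e ∧
      IsFrame N (f ⁻¹ᵁ V) (show Γ(N, f ⁻¹ᵁ V) from θ.app V e)) :
    IsIso (((Scheme.Modules.pullbackPushforwardAdjunction f).homEquiv M N).symm θ) := by
  choose V e hx he hθe using h
  set a := ((Scheme.Modules.pullbackPushforwardAdjunction f).homEquiv M N).symm θ with ha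
  refine IsoCover.isIso_of_bijective a (fun x => f ⁻¹ᵁ V x) (fun x => ⟨x, hx x⟩) fun x W hW => ?_
  have hpull : a.app (f ⁻¹ᵁ V x) (Frame.pull f M (V x) (e x)) = θ.app (V x) (e x) := by
    have h1 : (Scheme.Modules.pullbackPushforwardAdjunction f).unit.app M ≫ (Scheme.Modules.pushforward f).map a = θ :=
      (Adjunction.homEquiv_unit _ _ _ _).symm.trans
        (((Scheme.Modules.pullbackPushforwardAdjunction f).homEquiv M N).apply_symm_apply θ)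
    exact congr($(h1).app (V x) (e x))
  have key : (a.app W) ∘ (fun r : Γ(X, W) => r • rs _ hW (Frame.pull f M (V x) (e x))) =
      fun r : Γ(X, W) => r • rs N hW (show Γ(N, f ⁻¹ᵁ V x) from θ.app (V x) (e x)) := by
    funext r
    refine (Scheme.Modules.Hom.app_smul a r _).trans (congrArg (r • ·) ?_)
    refine Eq.trans ?_ (congrArg (rs N hW) hpull)
    exact ConcreteCategory.congr_hom (a.mapPresheaf.naturality (homOfLE hW).op) _
  exact (Function.Bijective.of_comp_iff _ ((Frame.IsFrame.pullback f M (he x)) W hW)).1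
    (key ▸ hθe x W hW)

end Adjunct

section genT

variable {A σ : Type u} [CommRing A] [SetLike σ A] [AddSubgroupClass σ A] {𝒢 : ℕ → σ} [GradedRing 𝒢]
  {B σ' : Type u} [CommRing B] [SetLike σ' B] [AddSubgroupClass σ' B] {ℋ : ℕ → σ'} [GradedRing ℋ]

/-- A fraction pulls back to a fraction. -/
theorem comapApp_genT (ψ : 𝒢 →+*ᵍ ℋ) (hψ : ℋ₊ ≤ (𝒢₊).map ψ) {m : ℤ} {i j : ℕ} (a : 𝒢 i) (b : 𝒢 j)
    (hN : (i : ℤ) = j + m) {W : Opens (ProjectiveSpectrum.top 𝒢)} (hb : ∀ x : W, (b : A) ∉ x.1.asHomogeneousIdeal)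
    {V : Opens (ProjectiveSpectrum.top ℋ)} (hsub : V.1 ⊆ ProjectiveSpectrum.comap ψ hψ ⁻¹' W.1) :
    GrTwist.comapApp ψ hψ m W V hsub (GrM.genT a b hN W hb) =
      GrM.genT (⟨ψ a, ψ.map_mem a.2⟩ : ℋ i) (⟨ψ b, ψ.map_mem b.2⟩ : ℋ j) hN V
        (fun y => hb ⟨_, hsub y.2⟩) :=
  GrM.sectN_ext fun _ => GrTwist.locMap_mk _ _ _ _ _

end genT

variable {S PA PB : Scheme.{u}} {𝒜 ℬ : RelProj.QCGrAlg S} {φ : 𝒜.toQCAlg ⟶ ℬ.toQCAlg}
  {hφ : RelProj.IsGradedHom φ}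
  {hirr : ∀ (U : S.Opens) (hU : IsAffineOpen U),
    (ℬ.deg U hU)₊ ≤ ((𝒜.deg U hU)₊).map (RelProj.gradedHomAt φ hφ U hU)}
  {pA : PA ⟶ S} {pB : PB ⟶ S}
  {chartA : ∀ (U : S.Opens) (hU : IsAffineOpen U), (((pA ⁻¹ᵁ U : PA.Opens) : Scheme.{u}) ≅ Proj (𝒜.deg U hU))}
  {chartB : ∀ (U : S.Opens) (hU : IsAffineOpen U), (((pB ⁻¹ᵁ U : PB.Opens) : Scheme.{u}) ≅ Proj (ℬ.deg U hU))}
  {h : PB ⟶ PA} {n : ℤ}
  {LA : PA.Modules} {lamA : ∀ (U : S.Opens) (hU : IsAffineOpen U),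
    LA ⟶ (Scheme.Modules.pushforward (RelProj.emb pA chartA U hU)).obj (GrTwist.twist (𝒜.deg U hU) n)}
  {LB : PB.Modules} {lamB : ∀ (U : S.Opens) (hU : IsAffineOpen U),
    LB ⟶ (Scheme.Modules.pushforward (RelProj.emb pB chartB U hU)).obj (GrTwist.twist (ℬ.deg U hU) n)}

theorem nonempty_iso_pullback (hgen : 𝒜.IsGenDegOne)
    (hA : RelProj.IsRelProj 𝒜 pA chartA) (hB : RelProj.IsRelProj ℬ pB chartB)
    (hh : RelProj.IsRelProjMap φ hφ hirr chartA chartB h) (hLA : RelProj.IsRelTwist 𝒜 pA chartA n LA lamA)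
    (hLB : RelProj.IsRelTwist ℬ pB chartB n LB lamB) :
    Nonempty ((Scheme.Modules.pullback h).obj LA ≅ LB) := by
  haveI := isIso_adjunct_of_frames h (compareHom hA hB hh hLA hLB) fun x => ?_
  · exact ⟨asIso (((Scheme.Modules.pullbackPushforwardAdjunction h).homEquiv LA LB).symm
      (compareHom hA hB hh hLA hLB))⟩
  obtain ⟨U, hxU⟩ := Data.exists_affine_nhd (p := pB) x
  obtain ⟨y, rfl⟩ := QMap.exists_point (chart := chartB) U.1 U.2 x hxU
  obtain ⟨t, ht, hty⟩ := irr_le_span hgen U.1 U.2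
    (ProjectiveSpectrum.comap (RelProj.gradedHomAt φ hφ U.1 U.2) (hirr U.1 U.2) y)
  let ψ := RelProj.gradedHomAt φ hφ U.1 U.2
  let V : PA.Opens := RelProj.emb pA chartA U.1 U.2 ''ᵁ Proj.basicOpen (𝒜.deg U.1 U.2) t
  have hV : V ≤ pA ⁻¹ᵁ U.1 := (Scheme.Hom.image_le_opensRange _ _).trans (RP.opensRange_emb U.1 U.2).le
  have hVt : ∀ z, (RelProj.emb pA chartA U.1 U.2).base z ∈ V → ∀ N : ℕ, t ^ N ∉ z.asHomogeneousIdeal := by
    rintro z ⟨z', hz', e⟩ N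
    rw [(RelProj.emb pA chartA U.1 U.2).isOpenEmbedding.injective e] at hz'
    exact GrM.notMem_pow ((Proj.mem_basicOpen _ _ _).1 hz') N
  obtain ⟨e, he, hev⟩ := exists_frame_twist hLA U.2
    (⟨t ^ n.toNat, SetLike.pow_mem_graded _ ht⟩ : 𝒜.deg U.1 U.2 (n.toNat • 1))
    (⟨t ^ (-n).toNat, SetLike.pow_mem_graded _ ht⟩ : 𝒜.deg U.1 U.2 ((-n).toNat • 1))
    (n := n) (by simp only [smul_eq_mul, mul_one]; omega) hV (fun z hz => hVt z hz _) (fun z hz => hVt z hz _)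
  refine ⟨V, e, ?_, he, ?_⟩
  · rw [emb_comp_base hh]
    exact ⟨_, (Proj.mem_basicOpen _ _ _).2 hty, rfl⟩
  rw [compareHom_app]
  have hcomm : h ≫ pA = pB := (RP.existsUnique_map φ hφ hirr hA hB).2 h hh
  have hW : h ⁻¹ᵁ V ≤ pB ⁻¹ᵁ U.1 := by
    intro z hz
    rw [← hcomm]
    exact hV hz
  refine isFrame_of_adjoint _ (lamB U.1 U.2) (fun W hW' => hLB.bijective U.1 U.2 W (hW'.trans (RP.opensRange_emb U.1 U.2).le))
    (hW.trans (RP.opensRange_emb U.1 U.2).ge) _ ?_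
  have hmem : ∀ z : (RelProj.emb pB chartB U.1 U.2 ⁻¹ᵁ (h ⁻¹ᵁ V) : (Proj (ℬ.deg U.1 U.2)).Opens), ∀ N : ℕ,
      ψ (t ^ N) ∉ z.1.asHomogeneousIdeal := fun z N hN => hVt
    (ProjectiveSpectrum.comap ψ (hirr U.1 U.2) z.1) (by rw [← emb_comp_base hh]; exact z.2) N hN
  have key : rdT lamB U (compareSec hA hB hh hLA hLB e) =
      GrM.genT (⟨ψ (t ^ n.toNat), ψ.map_mem (SetLike.pow_mem_graded _ ht)⟩ : ℬ.deg U.1 U.2 (n.toNat • 1))
        (⟨ψ (t ^ (-n).toNat), ψ.map_mem (SetLike.pow_mem_graded _ ht)⟩ : ℬ.deg U.1 U.2 ((-n).toNat • 1))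
        (n := n) (by simp only [smul_eq_mul, mul_one]; omega) _ (fun z => hmem z _) :=
    (rdT_compareSec hA hB hh hLA hLB e U).trans
      ((congrArg (fun q => GrTwist.comapApp ψ (hirr U.1 U.2) n (RelProj.emb pA chartA U.1 U.2 ⁻¹ᵁ V) _ _ q) hev).trans
        (comapApp_genT ψ (hirr U.1 U.2) _ _ _ _ _))
  refine (congrArg (IsFrame (GrTwist.twist (ℬ.deg U.1 U.2) n) _) key).mpr ?_
  exact GrM.isFrame_genT _ _ _ _ (fun z => hmem z _) (fun z => hmem z _)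

end Groth.L18.RelTilde
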