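import Groth.Agent.L18.RelTilde.Frames
import Groth.Agent.L18.RelTilde.Restrict
import Groth.Agent.L18.GrMod.Mul
import Groth.Agent.L18.IsoCover

/-!
# Multiplication `ℳ(m)~ ⊗ O(n) → ℳ(m+n)~` on a relative `Proj`
-/

set_option autoImplicit false

noncomputable section

universe u

open CategoryTheory MonoidalCategory AlgebraicGeometry TopologicalSpace Opposite TensorProduct
open Groth.L00
open Groth.L18
open Groth.L18.Frame (rs rs_rs rs_self rs_smul IsFrame)

namespace Groth.L18.RelTilde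

namespace Data

variable {S P : Scheme.{u}} {𝒮 : RelProj.QCGrAlg S} {D : Data 𝒮} {p : P ⟶ S}
  {chart : ∀ (U : S.Opens) (hU : IsAffineOpen U), (((p ⁻¹ᵁ U : P.Opens) : Scheme.{u}) ≅ Proj (𝒮.deg U hU))} {n : ℤ}
  {F : P.Modules} {l : ∀ (U : S.Opens) (hU : IsAffineOpen U), F ⟶ D.G p chart n U hU}

/-- Sections are determined by their chart readings. -/
theorem IsRel.sec_ext (hP : RelProj.IsRelProj 𝒮 p chart) (hF : D.IsRel p chart n F l) {W : P.Opens}
    {a b : Γ(F, W)} (h : ∀ U : S.affineOpens, (l U.1 U.2).app W a = (l U.1 U.2).app W b) : a = b := by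
  haveI := hF.isIso_toGlued hP
  exact ((ConcreteCategory.isIso_iff_bijective ((hF.toGlued hP).app W)).1 inferInstance).1
    (Subtype.ext (funext h))

end Data

variable {S P : Scheme.{u}} {𝒮 : RelProj.QCGrAlg S} {D : Data 𝒮} {p : P ⟶ S}
  {chart : ∀ (U : S.Opens) (hU : IsAffineOpen U), (((p ⁻¹ᵁ U : P.Opens) : Scheme.{u}) ≅ Proj (𝒮.deg U hU))}
  {m n k : ℤ}
  {F : P.Modules} {l : ∀ (U : S.Opens) (hU : IsAffineOpen U), F ⟶ D.G p chart m U hU}
  {L : P.Modules} {lam : ∀ (U : S.Opens) (hU : IsAffineOpen U),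
    L ⟶ (Scheme.Modules.pushforward (RelProj.emb p chart U hU)).obj (GrTwist.twist (𝒮.deg U hU) n)}
  {F'' : P.Modules} {l'' : ∀ (U : S.Opens) (hU : IsAffineOpen U), F'' ⟶ D.G p chart k U hU}

theorem twist_compat_bas (hL : RelProj.IsRelTwist 𝒮 p chart n L lam) {U E : S.Opens} (hU : IsAffineOpen U)
    (hE : IsAffineOpen E) (h : Bas U E) {W : P.Opens} (g : Γ(L, W)) (y : ProjectiveSpectrum (𝒮.deg E hE))
    (hy : (RelProj.emb p chart E hE).base y ∈ W) (hy' : (RelProj.emb p chart U hU).base (Data.down hU hE h y) ∈ W) :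
    GrTwist.val (V := RelProj.emb p chart E hE ⁻¹ᵁ W) ((lam E hE).app W g) ⟨y, hy⟩ =
      GrTwist.locMap (𝒮.res hU hE h.le) (RP.irr 𝒮 hU hE h h.le) y
        (GrTwist.val (V := RelProj.emb p chart U hU ⁻¹ᵁ W) ((lam U hU).app W g) ⟨_, hy'⟩) := by
  obtain ⟨r, rfl⟩ := h
  exact hL.compat U hU r W g y hy hy'

/-- A chart reading of a section of `F`. -/
def rd (l : ∀ (U : S.Opens) (hU : IsAffineOpen U), F ⟶ D.G p chart m U hU) (U : S.affineOpens) {W : P.Opens}
    (f : Γ(F, W)) : GrMod.sect (𝒮.deg U.1 U.2) (D.deg U.1 U.2) m (op (RelProj.emb p chart U.1 U.2 ⁻¹ᵁ W)) :=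
  (l U.1 U.2).app W f

/-- A chart reading of a section of `L`. -/
def rdT (lam : ∀ (U : S.Opens) (hU : IsAffineOpen U),
    L ⟶ (Scheme.Modules.pushforward (RelProj.emb p chart U hU)).obj (GrTwist.twist (𝒮.deg U hU) n))
    (U : S.affineOpens) {W : P.Opens} (g : Γ(L, W)) :
    GrTwist.sectN (𝒜 := 𝒮.deg U.1 U.2) n (op (RelProj.emb p chart U.1 U.2 ⁻¹ᵁ W)) :=
  (lam U.1 U.2).app W g

theorem mulExists (hP : RelProj.IsRelProj 𝒮 p chart) (hF : D.IsRel p chart m F l)
    (hL : RelProj.IsRelTwist 𝒮 p chart n L lam) (hF'' : D.IsRel p chart k F'' l'') (hk : k = m + n) {W : P.Opens}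
    (f : Γ(F, W)) (g : Γ(L, W)) :
    ∃ e : Γ(F'', W), ∀ U : S.affineOpens, rd l'' U e = GrM.mulT hk (rd l U f) (rdT lam U g) := by
  refine hF''.exists_section hP (fun U => GrM.mulT hk (rd l U f) (rdT lam U g)) fun U E h y hy => ?_
  have hy' : (RelProj.emb p chart U.1 U.2).base (Data.down U.2 E.2 h y) ∈ W := by
    rw [Data.emb_down hP]; exact hy
  have hf := hF.compat_bas hP U.2 E.2 h f y hy
  rw [Data.vtot, Data.vtot, Data.tot_of_mem _ _ hy, Data.tot_of_mem _ _ hy'] at hf ⊢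
  refine Eq.trans ?_ (GrMod.locModMap_smul _ _ _ y _ _).symm
  refine congrArg₂ (· • ·) ?_ hf
  exact twist_compat_bas hL U.2 E.2 h g y hy hy'

variable (hP : RelProj.IsRelProj 𝒮 p chart) (hF : D.IsRel p chart m F l)
  (hL : RelProj.IsRelTwist 𝒮 p chart n L lam) (hF'' : D.IsRel p chart k F'' l'') (hk : k = m + n)

/-- The product of two sections. -/
def mulRel {W : P.Opens} (f : Γ(F, W)) (g : Γ(L, W)) : Γ(F'', W) :=
  (mulExists hP hF hL hF'' hk f g).choose

theorem rd_mulRel {W : P.Opens} (f : Γ(F, W)) (g : Γ(L, W)) (U : S.affineOpens) :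
    rd l'' U (mulRel hP hF hL hF'' hk f g) = GrM.mulT hk (rd l U f) (rdT lam U g) :=
  (mulExists hP hF hL hF'' hk f g).choose_spec U

attribute [irreducible] mulRel

theorem rd_add {W : P.Opens} (U : S.affineOpens) (a b : Γ(F, W)) : rd l U (a + b) = rd l U a + rd l U b :=
  map_add _ a b

theorem rdT_add {W : P.Opens} (U : S.affineOpens) (a b : Γ(L, W)) : rdT lam U (a + b) = rdT lam U a + rdT lam U b :=
  map_add _ a b

theorem rd_smul {W : P.Opens} (U : S.affineOpens) (c : Γ(P, W)) (a : Γ(F, W)) :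
    rd l U (c • a) = (show GrTwist.O (op (RelProj.emb p chart U.1 U.2 ⁻¹ᵁ W)) from
      (RelProj.emb p chart U.1 U.2).app W c) • rd l U a :=
  Scheme.Modules.Hom.app_smul (l U.1 U.2) c a

theorem rdT_smul {W : P.Opens} (U : S.affineOpens) (c : Γ(P, W)) (a : Γ(L, W)) :
    rdT lam U (c • a) = (show GrTwist.O (op (RelProj.emb p chart U.1 U.2 ⁻¹ᵁ W)) from
      (RelProj.emb p chart U.1 U.2).app W c) • rdT lam U a :=
  Scheme.Modules.Hom.app_smul (lam U.1 U.2) c a

theorem rd_rs {W W' : P.Opens} (U : S.affineOpens) (i : W' ≤ W) (a : Γ(F, W)) :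
    rd l U (rs F i a) = GrMod.res (𝒮.deg U.1 U.2) (D.deg U.1 U.2) m
      (homOfLE ((RelProj.emb p chart U.1 U.2).preimage_mono i)).op (rd l U a) :=
  ConcreteCategory.congr_hom ((l U.1 U.2).mapPresheaf.naturality (homOfLE i).op) a

theorem rdT_rs {W W' : P.Opens} (U : S.affineOpens) (i : W' ≤ W) (a : Γ(L, W)) :
    rdT lam U (rs L i a) = GrTwist.resN n (homOfLE ((RelProj.emb p chart U.1 U.2).preimage_mono i)).op (rdT lam U a) :=
  ConcreteCategory.congr_hom ((lam U.1 U.2).mapPresheaf.naturality (homOfLE i).op) a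

theorem mulRel_add₁ {W : P.Opens} (f f' : Γ(F, W)) (g : Γ(L, W)) :
    mulRel hP hF hL hF'' hk (f + f') g = mulRel hP hF hL hF'' hk f g + mulRel hP hF hL hF'' hk f' g :=
  hF''.sec_ext hP fun U =>
    (rd_mulRel hP hF hL hF'' hk (f + f') g U).trans
      ((congrArg (fun q => GrM.mulT hk q (rdT lam U g)) (rd_add (l := l) U f f')).trans
        ((GrM.mulT_add₁ hk (rd l U f) (rd l U f') (rdT lam U g)).trans
          ((congrArg₂ (· + ·) (rd_mulRel hP hF hL hF'' hk f g U).symm (rd_mulRel hP hF hL hF'' hk f' g U).symm).trans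
            (rd_add (l := l'') U (mulRel hP hF hL hF'' hk f g) (mulRel hP hF hL hF'' hk f' g)).symm)))

theorem mulRel_add₂ {W : P.Opens} (f : Γ(F, W)) (g g' : Γ(L, W)) :
    mulRel hP hF hL hF'' hk f (g + g') = mulRel hP hF hL hF'' hk f g + mulRel hP hF hL hF'' hk f g' :=
  hF''.sec_ext hP fun U =>
    (rd_mulRel hP hF hL hF'' hk f (g + g') U).trans
      ((congrArg (fun q => GrM.mulT hk (rd l U f) q) (rdT_add (lam := lam) U g g')).trans
        ((GrM.mulT_add₂ hk (rd l U f) (rdT lam U g) (rdT lam U g')).trans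
          ((congrArg₂ (· + ·) (rd_mulRel hP hF hL hF'' hk f g U).symm (rd_mulRel hP hF hL hF'' hk f g' U).symm).trans
            (rd_add (l := l'') U (mulRel hP hF hL hF'' hk f g) (mulRel hP hF hL hF'' hk f g')).symm)))

theorem mulRel_smul₁ {W : P.Opens} (c : Γ(P, W)) (f : Γ(F, W)) (g : Γ(L, W)) :
    mulRel hP hF hL hF'' hk (c • f) g = c • mulRel hP hF hL hF'' hk f g :=
  hF''.sec_ext hP fun U =>
    (rd_mulRel hP hF hL hF'' hk (c • f) g U).trans
      ((congrArg (fun q => GrM.mulT hk q (rdT lam U g)) (rd_smul (l := l) U c f)).trans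
        ((GrM.mulT_smul₁ hk _ (rd l U f) (rdT lam U g)).trans
          ((congrArg _ (rd_mulRel hP hF hL hF'' hk f g U).symm).trans
            (rd_smul (l := l'') U c (mulRel hP hF hL hF'' hk f g)).symm)))

theorem mulRel_smul₂ {W : P.Opens} (c : Γ(P, W)) (f : Γ(F, W)) (g : Γ(L, W)) :
    mulRel hP hF hL hF'' hk f (c • g) = c • mulRel hP hF hL hF'' hk f g :=
  hF''.sec_ext hP fun U =>
    (rd_mulRel hP hF hL hF'' hk f (c • g) U).trans
      ((congrArg (fun q => GrM.mulT hk (rd l U f) q) (rdT_smul (lam := lam) U c g)).trans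
        ((GrM.mulT_smul₂ hk _ (rd l U f) (rdT lam U g)).trans
          ((congrArg _ (rd_mulRel hP hF hL hF'' hk f g U).symm).trans
            (rd_smul (l := l'') U c (mulRel hP hF hL hF'' hk f g)).symm)))

theorem mulRel_rs {W W' : P.Opens} (i : W' ≤ W) (f : Γ(F, W)) (g : Γ(L, W)) :
    mulRel hP hF hL hF'' hk (rs F i f) (rs L i g) = rs F'' i (mulRel hP hF hL hF'' hk f g) :=
  hF''.sec_ext hP fun U =>
    (rd_mulRel hP hF hL hF'' hk (rs F i f) (rs L i g) U).trans
      ((congrArg₂ (fun a b => GrM.mulT hk a b) (rd_rs (l := l) U i f) (rdT_rs (lam := lam) U i g)).trans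
        ((congrArg (GrMod.res (𝒮.deg U.1 U.2) (D.deg U.1 U.2) k
            (homOfLE ((RelProj.emb p chart U.1 U.2).preimage_mono i)).op) (rd_mulRel hP hF hL hF'' hk f g U).symm).trans
          (rd_rs (l := l'') U i (mulRel hP hF hL hF'' hk f g)).symm))

/-- The multiplication map of presheaves. -/
def mulPre : Tensor.pre F ⊗ Tensor.pre L ⟶ Tensor.pre F'' where
  app W := ModuleCat.ofHom (Y := (Tensor.pre F'').obj W)
    (TensorProduct.lift (LinearMap.mk₂ (P.sheaf.obj.obj W)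
      (fun (f : (Tensor.pre F).obj W) (g : (Tensor.pre L).obj W) =>
        (show (Tensor.pre F'').obj W from mulRel hP hF hL hF'' hk (W := W.unop) f g))
      (fun f f' g => mulRel_add₁ hP hF hL hF'' hk f f' g)
      (fun c f g => mulRel_smul₁ hP hF hL hF'' hk c f g)
      (fun f g g' => mulRel_add₂ hP hF hL hF'' hk f g g')
      (fun c f g => mulRel_smul₂ hP hF hL hF'' hk c f g)))
  naturality {W W'} i := ModuleCat.MonoidalCategory.tensor_ext fun f g =>
    mulRel_rs hP hF hL hF'' hk i.unop.le f g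

theorem mulPre_tmul (W : P.Opensᵒᵖ) (f : (Tensor.pre F).obj W) (g : (Tensor.pre L).obj W) :
    (mulPre hP hF hL hF'' hk).app W (f ⊗ₜ[P.sheaf.obj.obj W] g) = mulRel hP hF hL hF'' hk (W := W.unop) f g := rfl

/-- `F ⊗ L ⟶ F''`. -/
def mulHom : CohB1.tensorMod F L ⟶ F'' := IsoCover.adjunct (mulPre hP hF hL hF'' hk)

/-- Where `L` has a fraction frame the multiplication is bijective. -/
theorem mulHom_bijective {U : S.affineOpens} {i j : ℕ} (a : 𝒮.deg U.1 U.2 i) (b : 𝒮.deg U.1 U.2 j)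
    (hn : (i : ℤ) = j + n) {W : P.Opens} (hW : W ≤ p ⁻¹ᵁ U.1)
    (ha : ∀ y, (RelProj.emb p chart U.1 U.2).base y ∈ W → (a : 𝒮.presheaf.obj (op U.1)) ∉ y.asHomogeneousIdeal)
    (hb : ∀ y, (RelProj.emb p chart U.1 U.2).base y ∈ W → (b : 𝒮.presheaf.obj (op U.1)) ∉ y.asHomogeneousIdeal) :
    Function.Bijective ((mulHom hP hF hL hF'' hk).app W) := by
  refine IsoCover.adjunct_bijective _ W fun V hV => ?_
  obtain ⟨G, hG, hGv⟩ := exists_frame_twist hL U.2 a b hn (hV.trans hW) (fun y h => ha y (hV h))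
    (fun y h => hb y (hV h))
  let G₁ : GrTwist.sectN (𝒜 := 𝒮.deg U.1 U.2) n (op (RelProj.emb p chart U.1 U.2 ⁻¹ᵁ V)) :=
    GrM.genT a b hn _ fun x => hb x.1 (hV x.2)
  let H₁ : GrTwist.sectN (𝒜 := 𝒮.deg U.1 U.2) (-n) (op (RelProj.emb p chart U.1 U.2 ⁻¹ᵁ V)) :=
    GrM.genT b a (by omega) _ fun x => ha x.1 (hV x.2)
  have hGH : ∀ x, (G₁.1 x).1 * (H₁.1 x).1 = (1 : GrTwist.Loc (𝒮.deg U.1 U.2) x.1) := fun x => by
    exact GrM.mk_mul_mk_swap (a : 𝒮.presheaf.obj (op U.1)) (b : 𝒮.presheaf.obj (op U.1)) x.1 (ha x.1 (hV x.2))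
      (hb x.1 (hV x.2))
  let G' : (Tensor.pre L).obj (op V) := G
  have key : ∀ z : (Tensor.pre F ⊗ Tensor.pre L).obj (op V),
      ∃ f : (Tensor.pre F).obj (op V), z = f ⊗ₜ[P.sheaf.obj.obj (op V)] G' := by
    intro z
    induction z using TensorProduct.induction_on with
    | zero => exact ⟨0, (TensorProduct.zero_tmul _ G').symm⟩
    | tmul f g =>
      obtain ⟨c, hc⟩ := hG.exists_coeff le_rfl (show Γ(L, V) from g)
      rw [rs_self] at hc
      let c' : P.sheaf.obj.obj (op V) := c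
      refine ⟨c' • f, ?_⟩
      rw [show g = c' • G' from hc.symm]
      have h1 := TensorProduct.smul_tmul_smul (1 : P.sheaf.obj.obj (op V)) c' f G'
      have h2 := TensorProduct.smul_tmul_smul c' (1 : P.sheaf.obj.obj (op V)) f G'
      rw [one_mul] at h1
      rw [mul_one] at h2
      erw [one_smul] at h1 h2
      exact h1.trans h2.symm
    | add z z' hz hz' =>
      obtain ⟨f, rfl⟩ := hz
      obtain ⟨f', rfl⟩ := hz'
      exact ⟨f + f', (TensorProduct.add_tmul f f' G').symm⟩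
  have hrd : ∀ f : Γ(F, V), rd l'' U (mulRel hP hF hL hF'' hk f G) = GrM.mulT hk (rd l U f) G₁ := fun f =>
    (rd_mulRel hP hF hL hF'' hk f G U).trans (congrArg (GrM.mulT hk (rd l U f)) hGv)
  refine ⟨fun z z' e => ?_, fun y => ?_⟩
  · obtain ⟨f, rfl⟩ := key z
    obtain ⟨f', rfl⟩ := key z'
    replace e : mulRel hP hF hL hF'' hk (show Γ(F, V) from f) G = mulRel hP hF hL hF'' hk (show Γ(F, V) from f') G := e
    have e' := (hrd f).symm.trans ((congrArg (fun q : Γ(F'', V) => rd l'' U q) e).trans (hrd f'))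
    have : rd l U (show Γ(F, V) from f) = rd l U (show Γ(F, V) from f') := GrM.sect_ext fun x => by
      have h1 := congrArg (fun q => (H₁.1 x).1 • (q.1 x).1) e'
      simp only [GrM.mulT_apply, smul_smul, mul_comm (H₁.1 x).1, hGH x, one_smul] at h1
      exact h1
    rw [show f = f' from (hF.bijective U.1 U.2 V (hV.trans hW)).1 this]
  · obtain ⟨f, hf⟩ := (hF.bijective U.1 U.2 V (hV.trans hW)).2
      (GrM.mulT (show m = k + -n by omega) (rd l'' U (show Γ(F'', V) from y)) H₁)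
    refine ⟨(show (Tensor.pre F).obj (op V) from f) ⊗ₜ[P.sheaf.obj.obj (op V)] G', ?_⟩
    refine (mulPre_tmul hP hF hL hF'' hk (op V) _ G').trans ?_
    refine (hF''.bijective U.1 U.2 V (hV.trans hW)).1 ?_
    refine (hrd f).trans (GrM.sect_ext fun x => ?_)
    rw [GrM.mulT_apply]
    refine (congrArg (fun q : GrMod.sect (𝒮.deg U.1 U.2) (D.deg U.1 U.2) m _ => (G₁.1 x).1 • (q.1 x).1) hf).trans ?_
    simp only [GrM.mulT_apply, smul_smul, hGH x, one_smul]
    rfl

end Groth.L18.RelTilde
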