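import Groth.Agent.L18.RelTilde.Mul

/-!
# The comparison `O_A(n) ⟶ h_* O_B(n)` along a morphism of relative `Proj`s
-/

set_option autoImplicit false

noncomputable section

universe u

open CategoryTheory AlgebraicGeometry TopologicalSpace Opposite
open scoped HomogeneousIdeal
open Groth.L18
open Groth.L18.Frame (rs)

namespace Groth.L18.RelTilde

variable {S PA PB : Scheme.{u}} {𝒜 ℬ : RelProj.QCGrAlg S} {φ : 𝒜.toQCAlg ⟶ ℬ.toQCAlg}
  {hφ : RelProj.IsGradedHom φ}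
  {hirr : ∀ (U : S.Opens) (hU : IsAffineOpen U),
    (ℬ.deg U hU)₊ ≤ ((𝒜.deg U hU)₊).map (RelProj.gradedHomAt φ hφ U hU)}
  {pA : PA ⟶ S} {pB : PB ⟶ S}
  {chartA : ∀ (U : S.Opens) (hU : IsAffineOpen U), (((pA ⁻¹ᵁ U : PA.Opens) : Scheme.{u}) ≅ Proj (𝒜.deg U hU))}
  {chartB : ∀ (U : S.Opens) (hU : IsAffineOpen U), (((pB ⁻¹ᵁ U : PB.Opens) : Scheme.{u}) ≅ Proj (ℬ.deg U hU))}
  {h : PB ⟶ PA} {n : ℤ}
  {LA : PA.Modules} {lamA : ∀ (U : S.Opens) (hU : IsAffineOpen U),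
    LA ⟶ (Scheme.Modules.pushforward (RelProj.emb pA chartA U hU)).obj (GrTwist.twist (𝒜.deg U hU) n)}
  {LB : PB.Modules} {lamB : ∀ (U : S.Opens) (hU : IsAffineOpen U),
    LB ⟶ (Scheme.Modules.pushforward (RelProj.emb pB chartB U hU)).obj (GrTwist.twist (ℬ.deg U hU) n)}

theorem emb_comp (hh : RelProj.IsRelProjMap φ hφ hirr chartA chartB h) (U : S.Opens) (hU : IsAffineOpen U) :
    RelProj.emb pB chartB U hU ≫ h =
      Proj.map (RelProj.gradedHomAt φ hφ U hU) (hirr U hU) ≫ RelProj.emb pA chartA U hU := by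
  rw [RelProj.emb, Category.assoc, hh U hU, Iso.inv_hom_id_assoc]
  rfl

theorem emb_comp_base (hh : RelProj.IsRelProjMap φ hφ hirr chartA chartB h) (U : S.Opens) (hU : IsAffineOpen U)
    (y : ProjectiveSpectrum (ℬ.deg U hU)) :
    h.base ((RelProj.emb pB chartB U hU).base y) =
      (RelProj.emb pA chartA U hU).base (ProjectiveSpectrum.comap (RelProj.gradedHomAt φ hφ U hU) (hirr U hU) y) := by
  rw [← Scheme.Hom.comp_apply, emb_comp hh U hU]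
  rfl

/-- The pulled back section on a chart. -/
def chartComap (hh : RelProj.IsRelProjMap φ hφ hirr chartA chartB h)
    (lamA : ∀ (U : S.Opens) (hU : IsAffineOpen U),
      LA ⟶ (Scheme.Modules.pushforward (RelProj.emb pA chartA U hU)).obj (GrTwist.twist (𝒜.deg U hU) n))
    (U : S.affineOpens) {W : PA.Opens} (s : Γ(LA, W)) :
    GrTwist.sectN (𝒜 := ℬ.deg U.1 U.2) n (op (RelProj.emb pB chartB U.1 U.2 ⁻¹ᵁ (h ⁻¹ᵁ W))) :=
  GrTwist.comapApp (RelProj.gradedHomAt φ hφ U.1 U.2) (hirr U.1 U.2) n (RelProj.emb pA chartA U.1 U.2 ⁻¹ᵁ W) _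
    (fun y hy => show (RelProj.emb pA chartA U.1 U.2).base _ ∈ W by rw [← emb_comp_base hh]; exact hy)
    (rdT lamA U s)

section square

variable {A₁ A₂ B₁ B₂ σ₁ σ₂ τ₁ τ₂ : Type u}
  [CommRing A₁] [SetLike σ₁ A₁] [AddSubgroupClass σ₁ A₁] {𝒢₁ : ℕ → σ₁} [GradedRing 𝒢₁]
  [CommRing A₂] [SetLike σ₂ A₂] [AddSubgroupClass σ₂ A₂] {𝒢₂ : ℕ → σ₂} [GradedRing 𝒢₂]
  [CommRing B₁] [SetLike τ₁ B₁] [AddSubgroupClass τ₁ B₁] {ℋ₁ : ℕ → τ₁} [GradedRing ℋ₁]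
  [CommRing B₂] [SetLike τ₂ B₂] [AddSubgroupClass τ₂ B₂] {ℋ₂ : ℕ → τ₂} [GradedRing ℋ₂]

/-- Values along a commutative square of graded rings. -/
theorem locMap_square (r : 𝒢₁ →+*ᵍ 𝒢₂) (hr : 𝒢₂₊ ≤ (𝒢₁₊).map r) (ψ₁ : 𝒢₁ →+*ᵍ ℋ₁) (hψ₁ : ℋ₁₊ ≤ (𝒢₁₊).map ψ₁)
    (ψ₂ : 𝒢₂ →+*ᵍ ℋ₂) (hψ₂ : ℋ₂₊ ≤ (𝒢₂₊).map ψ₂) (r' : ℋ₁ →+*ᵍ ℋ₂) (hr' : ℋ₂₊ ≤ (ℋ₁₊).map r')
    (hcomm : ∀ a, ψ₂ (r a) = r' (ψ₁ a)) {m : ℤ} {Ω : Opens (ProjectiveSpectrum.top 𝒢₁)}
    (t : GrTwist.sectN (𝒜 := 𝒢₁) m (op Ω)) (y : ProjectiveSpectrum ℋ₂)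
    (h₁ : ProjectiveSpectrum.comap r hr (ProjectiveSpectrum.comap ψ₂ hψ₂ y) ∈ Ω)
    (h₂ : ProjectiveSpectrum.comap ψ₁ hψ₁ (ProjectiveSpectrum.comap r' hr' y) ∈ Ω) :
    GrTwist.locMap ψ₂ hψ₂ y (GrTwist.locMap r hr _ (t.1 ⟨_, h₁⟩).1) =
      GrTwist.locMap r' hr' y (GrTwist.locMap ψ₁ hψ₁ _ (t.1 ⟨_, h₂⟩).1) := by
  suffices H : ∀ (x x' : Ω) (_ : x = x') (f : GrTwist.Loc 𝒢₁ x.1 →+* GrTwist.Loc ℋ₂ y)
      (f' : GrTwist.Loc 𝒢₁ x'.1 →+* GrTwist.Loc ℋ₂ y),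
      (∀ (a : A₁) (c : x.1.asHomogeneousIdeal.toIdeal.primeCompl) (c' : x'.1.asHomogeneousIdeal.toIdeal.primeCompl),
        (c : A₁) = c' → f (Localization.mk a c) = f' (Localization.mk a c')) → f (t.1 x).1 = f' (t.1 x').1 by
    refine H ⟨_, h₁⟩ ⟨_, h₂⟩ (Subtype.ext (ProjectiveSpectrum.ext (HomogeneousIdeal.ext' fun i a _ => ?_)))
      ((GrTwist.locMap ψ₂ hψ₂ y).comp (GrTwist.locMap r hr _))
      ((GrTwist.locMap r' hr' y).comp (GrTwist.locMap ψ₁ hψ₁ _)) fun a c c' hcc => ?_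
    · show ψ₂ (r a) ∈ y.asHomogeneousIdeal ↔ r' (ψ₁ a) ∈ y.asHomogeneousIdeal
      rw [hcomm]
    · rw [RingHom.comp_apply, RingHom.comp_apply, GrTwist.locMap_mk, GrTwist.locMap_mk, GrTwist.locMap_mk,
        GrTwist.locMap_mk]
      simp only [hcomm, hcc]
  rintro x _ rfl f f' hf
  induction (t.1 x).1 using Localization.induction_on with
  | H z => exact hf z.1 z.2 z.2 rfl

end square

theorem res_gradedHom {U V : S.Opens} (hU : IsAffineOpen U) (hV : IsAffineOpen V) (i : V ≤ U)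
    (a : 𝒜.presheaf.obj (op U)) :
    RelProj.gradedHomAt φ hφ V hV (𝒜.res hU hV i a) = ℬ.res hU hV i (RelProj.gradedHomAt φ hφ U hU a) :=
  ConcreteCategory.congr_hom (φ.hom.naturality (homOfLE i).op) a

variable (hA : RelProj.IsRelProj 𝒜 pA chartA) (hB : RelProj.IsRelProj ℬ pB chartB)
  (hh : RelProj.IsRelProjMap φ hφ hirr chartA chartB h) (hLA : RelProj.IsRelTwist 𝒜 pA chartA n LA lamA)
  (hLB : RelProj.IsRelTwist ℬ pB chartB n LB lamB)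

include hA hB hLA hLB in
theorem compareExists {W : PA.Opens} (s : Γ(LA, W)) :
    ∃ e : Γ(LB, h ⁻¹ᵁ W), ∀ U : S.affineOpens, rdT lamB U e = chartComap hh lamA U s := by
  refine (isRel_of_isRelTwist hLB).exists_section hB
    (fun U => (chartComap hh lamA U s : GrTwist.sectN n _)) fun U E hb y hy => ?_
  have hy' : (RelProj.emb pB chartB U.1 U.2).base (Data.down U.2 E.2 hb y) ∈ h ⁻¹ᵁ W := by
    rw [Data.emb_down hB]; exact hy
  rw [Data.vtot, Data.vtot, Data.tot_of_mem _ _ hy, Data.tot_of_mem _ _ hy']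
  refine Eq.trans ?_ (locModMap_self U.2 E.2 hb.le (RP.irr ℬ U.2 E.2 hb hb.le) y _).symm
  have hz : (RelProj.emb pA chartA E.1 E.2).base
      (ProjectiveSpectrum.comap (RelProj.gradedHomAt φ hφ E.1 E.2) (hirr E.1 E.2) y) ∈ W := by
    rw [← emb_comp_base hh]; exact hy
  have hz' : (RelProj.emb pA chartA U.1 U.2).base (Data.down U.2 E.2 hb
      (ProjectiveSpectrum.comap (RelProj.gradedHomAt φ hφ E.1 E.2) (hirr E.1 E.2) y)) ∈ W := by
    rw [Data.emb_down hA]; exact hz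
  have e := twist_compat_bas hLA U.2 E.2 hb s _ hz hz'
  show GrTwist.locMap (RelProj.gradedHomAt φ hφ E.1 E.2) (hirr E.1 E.2) y
      (GrTwist.val (V := RelProj.emb pA chartA E.1 E.2 ⁻¹ᵁ W) ((lamA E.1 E.2).app W s) ⟨_, hz⟩) = _
  rw [e]
  exact locMap_square (𝒜.res U.2 E.2 hb.le) (RP.irr 𝒜 U.2 E.2 hb hb.le)
    (RelProj.gradedHomAt φ hφ U.1 U.2) (hirr U.1 U.2) (RelProj.gradedHomAt φ hφ E.1 E.2) (hirr E.1 E.2)
    (ℬ.res U.2 E.2 hb.le) (RP.irr ℬ U.2 E.2 hb hb.le) (res_gradedHom U.2 E.2 hb.le) (rdT lamA U s) y hz' _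

/-- The comparison on sections. -/
def compareSec {W : PA.Opens} (s : Γ(LA, W)) : Γ(LB, h ⁻¹ᵁ W) :=
  (compareExists hA hB hh hLA hLB s).choose

theorem rdT_compareSec {W : PA.Opens} (s : Γ(LA, W)) (U : S.affineOpens) :
    rdT lamB U (compareSec hA hB hh hLA hLB s) = chartComap hh lamA U s :=
  (compareExists hA hB hh hLA hLB s).choose_spec U

attribute [irreducible] compareSec

include hB hLB in
theorem twist_sec_ext {W : PB.Opens} {a b : Γ(LB, W)} (hab : ∀ U : S.affineOpens, rdT lamB U a = rdT lamB U b) :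
    a = b :=
  (isRel_of_isRelTwist hLB).sec_ext hB hab

theorem compareSec_add {W : PA.Opens} (a b : Γ(LA, W)) :
    compareSec hA hB hh hLA hLB (a + b) = compareSec hA hB hh hLA hLB a + compareSec hA hB hh hLA hLB b :=
  twist_sec_ext hB hLB fun U =>
    (rdT_compareSec hA hB hh hLA hLB (a + b) U).trans
      ((congrArg (fun q => GrTwist.comapApp (RelProj.gradedHomAt φ hφ U.1 U.2) (hirr U.1 U.2) n
          (RelProj.emb pA chartA U.1 U.2 ⁻¹ᵁ W) _ _ q) (rdT_add (lam := lamA) U a b)).trans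
        ((map_add _ (rdT lamA U a) (rdT lamA U b)).trans
          ((congrArg₂ (· + ·) (rdT_compareSec hA hB hh hLA hLB a U).symm
            (rdT_compareSec hA hB hh hLA hLB b U).symm).trans
            (rdT_add (lam := lamB) U (compareSec hA hB hh hLA hLB a) (compareSec hA hB hh hLA hLB b)).symm)))

theorem compareSec_rs {W W' : PA.Opens} (i : W' ≤ W) (s : Γ(LA, W)) :
    compareSec hA hB hh hLA hLB (rs LA i s) = rs LB (h.preimage_mono i) (compareSec hA hB hh hLA hLB s) :=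
  twist_sec_ext hB hLB fun U =>
    (rdT_compareSec hA hB hh hLA hLB (rs LA i s) U).trans
      ((congrArg (fun q => GrTwist.comapApp (RelProj.gradedHomAt φ hφ U.1 U.2) (hirr U.1 U.2) n
          (RelProj.emb pA chartA U.1 U.2 ⁻¹ᵁ W') (RelProj.emb pB chartB U.1 U.2 ⁻¹ᵁ (h ⁻¹ᵁ W')) _ q)
          (rdT_rs (lam := lamA) U i s)).trans
        ((congrArg (GrTwist.resN n (homOfLE ((RelProj.emb pB chartB U.1 U.2).preimage_mono (h.preimage_mono i))).op)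
          (rdT_compareSec hA hB hh hLA hLB s U).symm).trans
          (rdT_rs (lam := lamB) U (h.preimage_mono i) (compareSec hA hB hh hLA hLB s)).symm))

theorem scalar_comap {W : PA.Opens} (r : Γ(PA, W)) (U : S.affineOpens)
    (hsub : (RelProj.emb pB chartB U.1 U.2 ⁻¹ᵁ (h ⁻¹ᵁ W)).1 ⊆
      ProjectiveSpectrum.comap (RelProj.gradedHomAt φ hφ U.1 U.2) (hirr U.1 U.2) ⁻¹'
        (RelProj.emb pA chartA U.1 U.2 ⁻¹ᵁ W).1) (hh : RelProj.IsRelProjMap φ hφ hirr chartA chartB h) :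
    (show GrTwist.O (op (RelProj.emb pB chartB U.1 U.2 ⁻¹ᵁ (h ⁻¹ᵁ W))) from
      Proj.comapStructureSheaf (RelProj.gradedHomAt φ hφ U.1 U.2) (hirr U.1 U.2) (RelProj.emb pA chartA U.1 U.2 ⁻¹ᵁ W)
        (RelProj.emb pB chartB U.1 U.2 ⁻¹ᵁ (h ⁻¹ᵁ W)) hsub
        (show GrTwist.O (op (RelProj.emb pA chartA U.1 U.2 ⁻¹ᵁ W)) from (RelProj.emb pA chartA U.1 U.2).app W r)) =
      (RelProj.emb pB chartB U.1 U.2).app (h ⁻¹ᵁ W) (h.app W r) := by
  have e := ConcreteCategory.congr_hom (Scheme.Hom.congr_app (emb_comp hh U.1 U.2) W) r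
  refine Eq.trans ?_ e.symm
  rfl

theorem chartComap_smul {W : PA.Opens} (r : Γ(PA, W)) (s : Γ(LA, W)) (U : S.affineOpens) :
    chartComap hh lamA U (r • s) = (show GrTwist.O (op (RelProj.emb pB chartB U.1 U.2 ⁻¹ᵁ (h ⁻¹ᵁ W))) from
      (RelProj.emb pB chartB U.1 U.2).app (h ⁻¹ᵁ W) (h.app W r)) • chartComap hh lamA U s :=
  (congrArg (fun q => GrTwist.comapApp (RelProj.gradedHomAt φ hφ U.1 U.2) (hirr U.1 U.2) n
      (RelProj.emb pA chartA U.1 U.2 ⁻¹ᵁ W) (RelProj.emb pB chartB U.1 U.2 ⁻¹ᵁ (h ⁻¹ᵁ W)) _ q)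
      (rdT_smul (lam := lamA) U r s)).trans
    ((GrTwist.comapApp_smul (RelProj.gradedHomAt φ hφ U.1 U.2) (hirr U.1 U.2) n
        (RelProj.emb pA chartA U.1 U.2 ⁻¹ᵁ W) (RelProj.emb pB chartB U.1 U.2 ⁻¹ᵁ (h ⁻¹ᵁ W)) _ _ (rdT lamA U s)).trans
      (congrArg (· • chartComap hh lamA U s) (scalar_comap r U _ hh)))

theorem compareSec_smul {W : PA.Opens} (r : Γ(PA, W)) (s : Γ(LA, W)) :
    compareSec hA hB hh hLA hLB (r • s) = h.app W r • compareSec hA hB hh hLA hLB s :=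
  twist_sec_ext hB hLB fun U =>
    (rdT_compareSec hA hB hh hLA hLB (r • s) U).trans
      ((chartComap_smul hh r s U).trans
        ((congrArg (_ • ·) (rdT_compareSec hA hB hh hLA hLB s U).symm).trans
          (rdT_smul (lam := lamB) U (h.app W r) (compareSec hA hB hh hLA hLB s)).symm))

/-- `O_A(n) ⟶ h_* O_B(n)`. -/
def compareHom : LA ⟶ (Scheme.Modules.pushforward h).obj LB :=
  ⟨PresheafOfModules.homMk
    { app := fun W => AddCommGrpCat.ofHom (AddMonoidHom.mk'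
        (fun s : Γ(LA, W.unop) => compareSec hA hB hh hLA hLB s) (fun a b => compareSec_add hA hB hh hLA hLB a b))
      naturality := fun _ _ i => AddCommGrpCat.hom_ext (AddMonoidHom.ext fun s =>
        compareSec_rs hA hB hh hLA hLB i.unop.le s) }
    fun W r s => compareSec_smul hA hB hh hLA hLB r s⟩

theorem compareHom_app {W : PA.Opens} (s : Γ(LA, W)) :
    (compareHom hA hB hh hLA hLB).app W s = compareSec hA hB hh hLA hLB s := rfl

include hA hB hh hLA hLB in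
theorem existsUnique_compare : ∃! θ : LA ⟶ (Scheme.Modules.pushforward h).obj LB,
      ∀ (U : S.Opens) (hU : IsAffineOpen U) (W : PA.Opens) (s : Γ(LA, W))
        (y : ProjectiveSpectrum (ℬ.deg U hU))
        (hy : (RelProj.emb pB chartB U hU).base y ∈ h ⁻¹ᵁ W)
        (hy' : (RelProj.emb pA chartA U hU).base
          (ProjectiveSpectrum.comap (RelProj.gradedHomAt φ hφ U hU) (hirr U hU) y) ∈ W),
        GrTwist.val (V := RelProj.emb pB chartB U hU ⁻¹ᵁ (h ⁻¹ᵁ W)) ((lamB U hU).app (h ⁻¹ᵁ W) (θ.app W s)) ⟨y, hy⟩ =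
          GrTwist.locMap (RelProj.gradedHomAt φ hφ U hU) (hirr U hU) y
            (GrTwist.val (V := RelProj.emb pA chartA U hU ⁻¹ᵁ W) ((lamA U hU).app W s) ⟨_, hy'⟩) := by
  refine ⟨compareHom hA hB hh hLA hLB, fun U hU W s y hy hy' => ?_, fun θ hθ => ?_⟩
  · exact congrArg (fun q : GrTwist.sectN (𝒜 := ℬ.deg U hU) n (op (RelProj.emb pB chartB U hU ⁻¹ᵁ (h ⁻¹ᵁ W))) =>
      (q.1 ⟨y, hy⟩).1) (rdT_compareSec hA hB hh hLA hLB s ⟨U, hU⟩)
  · refine Scheme.Modules.hom_ext _ _ fun W => ?_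
    ext s
    refine twist_sec_ext hB hLB fun U => ?_
    rw [compareHom_app, rdT_compareSec hA hB hh hLA hLB s U]
    exact GrM.sectN_ext fun y => hθ U.1 U.2 W s y.1 y.2 (by rw [← emb_comp_base hh]; exact y.2)

end Groth.L18.RelTilde
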