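import Groth.Agent.L18.RelTilde.Ring
import Groth.Agent.L18.RelProj.BasicOpen
import Groth.Agent.L18.QMap.Point

/-!
# Local data for modules on a relative `Proj`; comparison at a point
-/

set_option autoImplicit false

noncomputable section

universe u

open CategoryTheory CategoryTheory.Limits AlgebraicGeometry TopologicalSpace Opposite
open scoped HomogeneousIdeal
open Groth.L18

namespace Groth.L18.RelTilde

/-- `D` is a basic open of `U`. -/
abbrev Bas {S : Scheme.{u}} (U D : S.Opens) : Prop := ∃ r : Γ(S, U), S.basicOpen r = D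

theorem Bas.le {S : Scheme.{u}} {U D : S.Opens} (h : Bas U D) : D ≤ U := by
  obtain ⟨r, rfl⟩ := h
  exact S.basicOpen_le r

theorem Bas.trans {S : Scheme.{u}} {U D E : S.Opens} (hU : IsAffineOpen U) (h : Bas U D) (h' : Bas D E) : Bas U E := by
  obtain ⟨f, rfl⟩ := h
  obtain ⟨g, rfl⟩ := h'
  exact AlgebraicGeometry.IsAffineOpen.basicOpen_basicOpen_is_basicOpen hU f g

/-- Graded modules over the `𝒮(U)` with restriction maps that are localizations on basic opens. -/
structure Data {S : Scheme.{u}} (𝒮 : RelProj.QCGrAlg S) where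
  M : ∀ U : S.Opens, IsAffineOpen U → Type u
  [addCommGroup : ∀ U hU, AddCommGroup (M U hU)]
  [module : ∀ U hU, Module (𝒮.presheaf.obj (op U)) (M U hU)]
  deg : ∀ U hU, ℕ → AddSubgroup (M U hU)
  [decomp : ∀ U hU, DirectSum.Decomposition (deg U hU)]
  [gradedSMul : ∀ U hU, SetLike.GradedSMul (𝒮.deg U hU) (deg U hU)]
  res : ∀ {U V : S.Opens} (hU : IsAffineOpen U) (hV : IsAffineOpen V) (i : V ≤ U),
    M U hU →ₛₗ[(𝒮.res hU hV i).toRingHom] M V hV
  res_mem : ∀ {U V : S.Opens} (hU : IsAffineOpen U) (hV : IsAffineOpen V) (i : V ≤ U) (d : ℕ) (m : M U hU),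
    m ∈ deg U hU d → res hU hV i m ∈ deg V hV d
  res_comp : ∀ {U V W : S.Opens} (hU : IsAffineOpen U) (hV : IsAffineOpen V) (hW : IsAffineOpen W) (i : V ≤ U)
    (j : W ≤ V) (m : M U hU), res hU hW (j.trans i) m = res hV hW j (res hU hV i m)
  loc : ∀ (U : S.Opens) (hU : IsAffineOpen U) (r : Γ(S, U)),
    IsLoc (𝒮.res hU (hU.basicOpen r) (S.basicOpen_le r)) (res hU (hU.basicOpen r) (S.basicOpen_le r))
      ((𝒮.str.app (op U)).hom r)

attribute [instance] Data.addCommGroup Data.module Data.decomp Data.gradedSMul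

namespace Data

variable {S P : Scheme.{u}} {𝒮 : RelProj.QCGrAlg S} (D : Data 𝒮) {p : P ⟶ S}
  {chart : ∀ (U : S.Opens) (hU : IsAffineOpen U), (((p ⁻¹ᵁ U : P.Opens) : Scheme.{u}) ≅ Proj (𝒮.deg U hU))}

/-- The module on the chart. -/
abbrev T (U : S.Opens) (hU : IsAffineOpen U) (n : ℤ) : (Proj (𝒮.deg U hU)).Modules :=
  GrMod.tilde (𝒮.deg U hU) (D.deg U hU) n

/-- The point of the smaller chart, seen in the larger one. -/
abbrev down {U V : S.Opens} (hU : IsAffineOpen U) (hV : IsAffineOpen V) (h : Bas U V)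
    (y : ProjectiveSpectrum (𝒮.deg V hV)) : ProjectiveSpectrum (𝒮.deg U hU) :=
  ProjectiveSpectrum.comap (𝒮.res hU hV h.le) (RP.irr 𝒮 hU hV h h.le) y

/-- Comparison of localized modules. -/
abbrev ρ {U V : S.Opens} (hU : IsAffineOpen U) (hV : IsAffineOpen V) (h : Bas U V)
    (y : ProjectiveSpectrum (𝒮.deg V hV)) :
    GrMod.LocMod (𝒮.deg U hU) (M := D.M U hU) (down hU hV h y) →+ GrMod.LocMod (𝒮.deg V hV) (M := D.M V hV) y :=
  GrMod.locModMap (𝒮.res hU hV h.le) (RP.irr 𝒮 hU hV h h.le) (D.res hU hV h.le) y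

theorem loc_bas {U V : S.Opens} (hU : IsAffineOpen U) (hV : IsAffineOpen V) (h : Bas U V) :
    ∃ r, IsLoc (𝒮.res hU hV h.le) (D.res hU hV h.le) r := by
  obtain ⟨r, rfl⟩ := h
  exact ⟨_, D.loc U hU r⟩

theorem ρ_injective {U V : S.Opens} (hU : IsAffineOpen U) (hV : IsAffineOpen V) (h : Bas U V)
    (y : ProjectiveSpectrum (𝒮.deg V hV)) : Function.Injective (D.ρ hU hV h y) := by
  obtain ⟨r, hr⟩ := D.loc_bas hU hV h
  exact hr.locModMap_injective _ y

theorem ρ_comp {U V W : S.Opens} (hU : IsAffineOpen U) (hV : IsAffineOpen V) (hW : IsAffineOpen W) (h : Bas U V)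
    (h' : Bas V W) (h'' : Bas U W) (a : ∀ x, GrMod.LocMod (𝒮.deg U hU) (M := D.M U hU) x)
    (y : ProjectiveSpectrum (𝒮.deg W hW)) :
    D.ρ hU hW h'' y (a (down hU hW h'' y)) =
      D.ρ hV hW h' y (D.ρ hU hV h (down hV hW h' y) (a (down hU hV h (down hV hW h' y)))) :=
  locModMap_comp _ _ _ _ _ _ _ _ _
    (fun x => (congrArg (fun g : 𝒮.deg U hU →+*ᵍ 𝒮.deg W hW => g x) (RP.res_comp 𝒮 hU hV hW h.le h'.le)).symm)
    (fun m => D.res_comp hU hV hW h.le h'.le m) a y

variable (hP : RelProj.IsRelProj 𝒮 p chart)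

include hP in
theorem mapRes_emb {U V : S.Opens} (hU : IsAffineOpen U) (hV : IsAffineOpen V) (h : Bas U V) :
    RP.mapRes 𝒮 hU hV h h.le ≫ RelProj.emb p chart U hU = RelProj.emb p chart V hV := by
  obtain ⟨r, rfl⟩ := h
  exact RelProj.map_res_emb hP U hU r

include hP in
theorem emb_down {U V : S.Opens} (hU : IsAffineOpen U) (hV : IsAffineOpen V) (h : Bas U V)
    (y : ProjectiveSpectrum (𝒮.deg V hV)) :
    (RelProj.emb p chart U hU).base (down hU hV h y) = (RelProj.emb p chart V hV).base y := by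
  rw [← mapRes_emb hP hU hV h]
  rfl

include hP in
theorem down_eq {U V : S.Opens} (hU : IsAffineOpen U) (hV : IsAffineOpen V) (h : Bas U V)
    {x : ProjectiveSpectrum (𝒮.deg U hU)} {y : ProjectiveSpectrum (𝒮.deg V hV)}
    (e : (RelProj.emb p chart U hU).base x = (RelProj.emb p chart V hV).base y) : down hU hV h y = x :=
  (RelProj.emb p chart U hU).isOpenEmbedding.injective ((emb_down hP hU hV h y).trans e.symm)

include hP in
/-- A common basic open and a point above a given point. -/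
theorem exists_common_point {U V : S.Opens} (hU : IsAffineOpen U) (hV : IsAffineOpen V)
    (x : ProjectiveSpectrum (𝒮.deg V hV)) (hx : (RelProj.emb p chart V hV).base x ∈ p ⁻¹ᵁ U) :
    ∃ (E : S.Opens) (hE : IsAffineOpen E) (_ : Bas U E) (hV' : Bas V E) (y : ProjectiveSpectrum (𝒮.deg E hE)),
      down hV hE hV' y = x := by
  obtain ⟨v, hv⟩ := QMap.exists_point (chart := chart) U hU _ hx
  obtain ⟨E, hE, i, j, hi, hj, y, -, hy⟩ := RP.exists_common hP hU hV hv
  exact ⟨E, hE, hi, hj, y, hy⟩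

include hP in
/-- Two functions agreeing in one common basic open at a point agree in every other. -/
theorem agree_indep {U V : S.Opens} (hU : IsAffineOpen U) (hV : IsAffineOpen V)
    (a : ∀ x, GrMod.LocMod (𝒮.deg U hU) (M := D.M U hU) x) (b : ∀ x, GrMod.LocMod (𝒮.deg V hV) (M := D.M V hV) x)
    {E E' : S.Opens} (hE : IsAffineOpen E) (hE' : IsAffineOpen E') (hUE : Bas U E) (hVE : Bas V E)
    (hUE' : Bas U E') (hVE' : Bas V E') (y : ProjectiveSpectrum (𝒮.deg E hE)) (y' : ProjectiveSpectrum (𝒮.deg E' hE'))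
    (hyy : down hV hE hVE y = down hV hE' hVE' y')
    (h : D.ρ hU hE hUE y (a (down hU hE hUE y)) = D.ρ hV hE hVE y (b (down hV hE hVE y))) :
    D.ρ hU hE' hUE' y' (a (down hU hE' hUE' y')) = D.ρ hV hE' hVE' y' (b (down hV hE' hVE' y')) := by
  have hz : (RelProj.emb p chart E hE).base y = (RelProj.emb p chart E' hE').base y' := by
    rw [← emb_down hP hV hE hVE y, ← emb_down hP hV hE' hVE' y', hyy]
  obtain ⟨F, hF, i, j, hi, hj, w, hw, hw'⟩ := RP.exists_common hP hE hE' hz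
  have hwy : down hE hF hi w = y := hw
  have hwy' : down hE' hF hj w = y' := hw'
  subst hwy
  subst hwy'
  have hUF := Bas.trans hU hUE hi
  have hVF := Bas.trans hV hVE hi
  refine D.ρ_injective hE' hF hj w ?_
  rw [← D.ρ_comp hU hE' hF hUE' hj hUF a w, ← D.ρ_comp hV hE' hF hVE' hj hVF b w,
    D.ρ_comp hU hE hF hUE hi hUF a w, h, ← D.ρ_comp hV hE hF hVE hi hVF b w]

section tot

open Classical in
/-- A section as a function on all points, zero outside. -/
def tot {n : ℤ} {U : S.Opens} {hU : IsAffineOpen U} {Ω : (Proj (𝒮.deg U hU)).Opens} (t : Γ(D.T U hU n, Ω))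
    (x : ProjectiveSpectrum (𝒮.deg U hU)) : GrMod.LocMod (𝒮.deg U hU) (M := D.M U hU) x :=
  if h : x ∈ Ω then GrMod.val (V := Ω) t ⟨x, h⟩ else 0

theorem tot_of_mem {n : ℤ} {U : S.Opens} {hU : IsAffineOpen U} {Ω : (Proj (𝒮.deg U hU)).Opens} (t : Γ(D.T U hU n, Ω))
    {x : ProjectiveSpectrum (𝒮.deg U hU)} (h : x ∈ Ω) : D.tot t x = GrMod.val (V := Ω) t ⟨x, h⟩ := dif_pos h

theorem tot_mem {n : ℤ} {U : S.Opens} {hU : IsAffineOpen U} {Ω : (Proj (𝒮.deg U hU)).Opens} (t : Γ(D.T U hU n, Ω))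
    (x : ProjectiveSpectrum (𝒮.deg U hU)) : D.tot t x ∈ GrMod.tildeAt (𝒮.deg U hU) (D.deg U hU) n x := by
  by_cases h : x ∈ Ω
  · rw [D.tot_of_mem t h]
    exact ((t : GrMod.sect (𝒮.deg U hU) (D.deg U hU) n (op Ω)).1 ⟨x, h⟩).2
  · rw [show D.tot t x = 0 from dif_neg h]
    exact zero_mem _

theorem sect_ext {n : ℤ} {U : S.Opens} {hU : IsAffineOpen U} {Ω : (Proj (𝒮.deg U hU)).Opens} {s t : Γ(D.T U hU n, Ω)}
    (h : ∀ x, x ∈ Ω → D.tot s x = D.tot t x) : s = t := by
  refine Subtype.ext (funext fun x => Subtype.ext ?_)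
  have := h x.1 x.2
  rwa [D.tot_of_mem s x.2, D.tot_of_mem t x.2] at this

theorem tot_zero {n : ℤ} {U : S.Opens} {hU : IsAffineOpen U} {Ω : (Proj (𝒮.deg U hU)).Opens}
    (x : ProjectiveSpectrum (𝒮.deg U hU)) : D.tot (0 : Γ(D.T U hU n, Ω)) x = 0 := by
  by_cases h : x ∈ Ω
  · rw [D.tot_of_mem _ h]; rfl
  · exact dif_neg h

theorem tot_add {n : ℤ} {U : S.Opens} {hU : IsAffineOpen U} {Ω : (Proj (𝒮.deg U hU)).Opens}
    (s t : Γ(D.T U hU n, Ω)) (x : ProjectiveSpectrum (𝒮.deg U hU)) : D.tot (s + t) x = D.tot s x + D.tot t x := by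
  by_cases h : x ∈ Ω
  · rw [D.tot_of_mem _ h, D.tot_of_mem _ h, D.tot_of_mem _ h]; rfl
  · rw [show D.tot (s + t) x = 0 from dif_neg h, show D.tot s x = 0 from dif_neg h, show D.tot t x = 0 from dif_neg h,
      add_zero]

end tot

end Data

end Groth.L18.RelTilde
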