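import Groth.Agent.L18.RelTilde.Frames
import Groth.Agent.L18.RelTilde.Restrict
import Groth.Agent.L18.GrMod.FiniteChart
import Groth.Agent.L16.CohKernel

/-!
# `ℳ~` is of finite type under (TF); `ℳ~ = 0` forces (TN)
-/

set_option autoImplicit false

noncomputable section

universe u

open CategoryTheory CategoryTheory.Limits AlgebraicGeometry TopologicalSpace Opposite
open Groth.L18

namespace Groth.L18.RelTilde

variable {S P : Scheme.{u}} {𝒮 : RelProj.QCGrAlg S} {p : P ⟶ S}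
  {chart : ∀ (U : S.Opens) (hU : IsAffineOpen U), (((p ⁻¹ᵁ U : P.Opens) : Scheme.{u}) ≅ Proj (𝒮.deg U hU))}
  {D : Data 𝒮} {F : P.Modules} {l : ∀ (U : S.Opens) (hU : IsAffineOpen U), F ⟶ D.G p chart 0 U hU}

/-- Finite type under (TF). -/
theorem isFT_of_tf (hgen : 𝒮.IsGenDegOne) (hF : D.IsRel p chart 0 F l)
    (hTF : ∀ (U : S.Opens) (hU : IsAffineOpen U),
      ∃ n : ℕ, (Submodule.span (𝒮.presheaf.obj (op U)) (⋃ k ∈ Set.Ici n, (D.deg U hU k : Set (D.M U hU)))).FG) :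
    CohB1.IsFT F := by
  refine (Groth.L16.CohKernel.isCoh_of_tilde_charts _ fun x => ?_).2
  obtain ⟨U, hxU⟩ := Data.exists_affine_nhd (p := p) x
  obtain ⟨y, rfl⟩ := QMap.exists_point (chart := chart) U.1 U.2 x hxU
  obtain ⟨t, ht, hty⟩ := irr_le_span hgen U.1 U.2 y
  let e := RelProj.emb p chart U.1 U.2
  let j := Proj.awayι (𝒮.deg U.1 U.2) t ht one_pos
  let N := GrM.chartMod (ℳ := D.deg U.1 U.2) 0 one_pos ht
  haveI := (isIso_fromTildeΓ_iff_isLocalizing N).2 (GrM.isLocalizing_chartMod (ℳ := D.deg U.1 U.2) 0 one_pos ht)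
  obtain ⟨z, hz⟩ := (Proj.opensRange_awayι (𝒮.deg U.1 U.2) t ht one_pos).ge
    ((Proj.mem_basicOpen _ _ _).2 hty : (y : Proj (𝒮.deg U.1 U.2)) ∈ _)
  refine ⟨.of (HomogeneousLocalization.Away (𝒮.deg U.1 U.2) t), j ≫ e, inferInstance, _, ⟨z, ?_⟩,
    GrM.finite_chartMod ht (hTF U.1 U.2), ⟨(Scheme.Modules.restrictFunctorComp j e).app F ≪≫
      (Scheme.Modules.restrictFunctor j).mapIso (Data.resIso hF U.1 U.2) ≪≫
      (asIso (Scheme.Modules.fromTildeΓ (R := .of (HomogeneousLocalization.Away (𝒮.deg U.1 U.2) t)) N)).symm⟩⟩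
  change e.base (j.base z) = _
  rw [hz]

/-- Vanishing forces (TN). -/
theorem isTN_of_isZero [CompactSpace S] (hgen : 𝒮.IsGenDegOne) (hft : 𝒮.IsFTDeg 1)
    (hF : D.IsRel p chart 0 F l)
    (hTF : ∀ (U : S.Opens) (hU : IsAffineOpen U),
      ∃ n : ℕ, (Submodule.span (𝒮.presheaf.obj (op U)) (⋃ k ∈ Set.Ici n, (D.deg U hU k : Set (D.M U hU)))).FG)
    (h0 : IsZero F) :
    ∃ n : ℕ, ∀ (U : S.Opens) (hU : IsAffineOpen U) (k : ℕ), n ≤ k → ∀ m ∈ D.deg U hU k, m = 0 := by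
  classical
  have hloc : ∀ V : S.affineOpens, ∃ n : ℕ, ∀ k, n ≤ k → ∀ m ∈ D.deg V.1 V.2 k, m = 0 := by
    intro V
    obtain ⟨T, hT, hspan⟩ := hft V.1 V.2
    have hle : (HomogeneousIdeal.irrelevant (𝒮.deg V.1 V.2)).toIdeal ≤
        Ideal.span (T : Set (𝒮.presheaf.obj (op V.1))) :=
      RPGen.irrelevant_le_span _ (hgen V.1 V.2) fun x hx => by
        obtain ⟨c, hc⟩ := hspan x hx
        rw [hc]
        exact Ideal.sum_mem _ fun t ht => Ideal.mul_mem_left _ _ (Ideal.subset_span ht)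
    have hirr : ∀ x ∈ 𝒮.deg V.1 V.2 1, x ∈ (HomogeneousIdeal.irrelevant (𝒮.deg V.1 V.2)).toIdeal :=
      fun x hx => (HomogeneousIdeal.mem_irrelevant_iff _ _).2
        (by rw [GradedRing.proj_apply, DirectSum.decompose_of_mem_ne (𝒮.deg V.1 V.2) hx one_ne_zero])
    refine (GrM.isZero_iff_eventually_bot (𝒜 := 𝒮.deg V.1 V.2) (ℳ := D.deg V.1 V.2) ⟨T, le_antisymm ?_ hle⟩
      (le_antisymm (hle.trans (Ideal.span_mono hT)) (Ideal.span_le.2 hirr)) (hTF V.1 V.2)).1 ?_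
    · exact Ideal.span_le.2 fun t ht => hirr t (hT ht)
    · exact ((Scheme.Modules.restrictFunctor _).map_isZero h0).of_iso (Data.resIso hF V.1 V.2).symm
  choose n hn using hloc
  obtain ⟨s, hs⟩ := isCompact_univ.elim_finite_subcover (fun V : S.affineOpens => ((V.1 : S.Opens) : Set S))
    (fun V => V.1.2) (fun x _ => by
      obtain ⟨_, ⟨W, hW, rfl⟩, hxW, -⟩ :=
        S.isBasis_affineOpens.exists_subset_of_mem_open (Set.mem_univ x) isOpen_univ
      exact Set.mem_iUnion.2 ⟨⟨W, hW⟩, hxW⟩)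
  refine ⟨s.sup n, fun U hU k hk m hm => ?_⟩
  let I : Ideal Γ(S, U) :=
    ((Submodule.span (𝒮.presheaf.obj (op U)) {m}).annihilator.comap (𝒮.str.app (op U)).hom).radical
  have hcov : ∀ x ∈ U, ∃ f : Γ(S, U), x ∈ S.basicOpen f ∧ f ∈ I := by
    intro x hx
    obtain ⟨V, hV, hxV⟩ := Set.mem_iUnion₂.1 (hs (Set.mem_univ x))
    obtain ⟨f, g, hfg, hxf⟩ := exists_basicOpen_le_affine_inter hU V.2 x ⟨hx, hxV⟩
    refine ⟨f, hxf, ?_⟩
    have hE : IsAffineOpen (S.basicOpen f) := hU.basicOpen f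
    have hVE : Bas V.1 (S.basicOpen f) := ⟨g, hfg.symm⟩
    obtain ⟨r, hr⟩ := D.loc_bas V.2 hE hVE
    have hm' : D.res hU hE (S.basicOpen_le f) m ∈ D.deg _ hE k := D.res_mem hU hE _ k m hm
    obtain ⟨j, m₀, hm₀, hj⟩ := hr.exists_homM (fun d z hz => D.res_mem V.2 hE hVE.le d z hz) hm'
    rw [hn V k ((Finset.le_sup hV).trans hk) m₀ hm₀, map_zero] at hj
    have hz : D.res hU hE (S.basicOpen_le f) m = 0 := ((hr.isUnit.pow j).smul_eq_zero).1 hj
    obtain ⟨N, hN⟩ := (D.loc U hU f).kerM m hz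
    exact ⟨N, (Submodule.mem_annihilator_span_singleton _ _).2 (by rw [map_pow]; exact hN)⟩
  have htop : I = ⊤ := by
    choose f hf hfI using hcov
    refine top_le_iff.1 ?_
    rw [← (hU.iSup_basicOpen_eq_self_iff (s := Set.range fun x : U => f x.1 x.2)).1 ?_]
    · exact Ideal.span_le.2 (Set.range_subset_iff.2 fun x => hfI x.1 x.2)
    · refine le_antisymm (iSup_le fun r => S.basicOpen_le _) fun x hx => Opens.mem_iSup.mpr ⟨⟨_, ⟨x, hx⟩, rfl⟩, hf x hx⟩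
  obtain ⟨N, hN⟩ := (htop ▸ trivial : (1 : Γ(S, U)) ∈ I)
  rw [one_pow, Ideal.mem_comap, map_one, Submodule.mem_annihilator_span_singleton, one_smul] at hN
  exact hN

end Groth.L18.RelTilde
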