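import Groth.Agent.L18.RelTilde.Rel
import Groth.Agent.L18.IsoCover

/-!
# Morphisms of modules on a relative `Proj` given chartwise
-/

set_option autoImplicit false

noncomputable section

universe u

open CategoryTheory CategoryTheory.Limits AlgebraicGeometry TopologicalSpace Opposite
open scoped HomogeneousIdeal
open Groth.L18

namespace Groth.L18.RelTilde

namespace Data

variable {S P : Scheme.{u}} {𝒮 : RelProj.QCGrAlg S} {D : Data 𝒮} {p : P ⟶ S}
  {chart : ∀ (U : S.Opens) (hU : IsAffineOpen U), (((p ⁻¹ᵁ U : P.Opens) : Scheme.{u}) ≅ Proj (𝒮.deg U hU))} {n : ℤ}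
  (hP : RelProj.IsRelProj 𝒮 p chart)

theorem exists_affine_nhd (x : P) : ∃ U : S.affineOpens, x ∈ p ⁻¹ᵁ U.1 := by
  obtain ⟨U, hU⟩ := Opens.mem_iSup.mp ((iSup_affineOpens_eq_top S).ge (trivial : p.base x ∈ (⊤ : S.Opens)))
  exact ⟨U, hU⟩

variable {F : P.Modules} {l : ∀ (U : S.Opens) (hU : IsAffineOpen U), F ⟶ D.G p chart n U hU}
  (hF : D.IsRel p chart n F l)

include hP hF in
theorem IsRel.compat_bas {U E : S.Opens} (hU : IsAffineOpen U) (hE : IsAffineOpen E) (h : Bas U E) {W : P.Opens}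
    (s : Γ(F, W)) (y : ProjectiveSpectrum (𝒮.deg E hE)) (hy : (RelProj.emb p chart E hE).base y ∈ W) :
    D.vtot p chart n ((l E hE).app W s) y = D.ρ hU hE h y (D.vtot p chart n ((l U hU).app W s) (down hU hE h y)) := by
  have hy' : (RelProj.emb p chart U hU).base (down hU hE h y) ∈ W := by rw [emb_down hP]; exact hy
  obtain ⟨r, rfl⟩ := h
  rw [vtot, vtot, D.tot_of_mem _ hy, D.tot_of_mem _ hy']
  exact hF.compat U hU r W s y hy hy'

/-- The comparison with the glued module. -/
def IsRel.toGlued : F ⟶ D.glued p chart n hP :=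
  ⟨PresheafOfModules.homMk
    { app := fun W => AddCommGrpCat.ofHom
        { toFun := fun s : Γ(F, W.unop) =>
            (⟨fun U => (l U.1 U.2).app W.unop s, fun U E h y hy => hF.compat_bas hP U.2 E.2 h s y hy⟩ :
              D.compatSub p chart n hP W)
          map_zero' := Subtype.ext (funext fun U => map_zero _)
          map_add' := fun a b => Subtype.ext (funext fun U => map_add _ a b) }
      naturality := fun W W' i => AddCommGrpCat.hom_ext (AddMonoidHom.ext fun s => Subtype.ext (funext fun U =>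
        ConcreteCategory.congr_hom ((l U.1 U.2).mapPresheaf.naturality i) s)) }
    fun W r s => Subtype.ext (funext fun U => Scheme.Modules.Hom.app_smul (l U.1 U.2) r s)⟩

theorem IsRel.toGlued_lam (U : S.Opens) (hU : IsAffineOpen U) :
    hF.toGlued hP ≫ D.lam p chart n hP U hU = l U hU :=
  Scheme.Modules.hom_ext _ _ fun W => rfl

theorem IsRel.isIso_toGlued : IsIso (hF.toGlued hP) := by
  refine IsoCover.isIso_of_bijective _ (fun U : S.affineOpens => p ⁻¹ᵁ U.1) exists_affine_nhd fun U V hV => ?_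
  have h1 := D.lam_bijective p chart n hP U.2 hV
  have h2 : Function.Bijective (((D.lam p chart n hP U.1 U.2).app V) ∘ ((hF.toGlued hP).app V)) :=
    hF.bijective U.1 U.2 V hV
  exact (Function.Bijective.of_comp_iff' h1 _).mp h2

include hF in
theorem IsRel.hom_ext {G : P.Modules} {φ ψ : G ⟶ F}
    (h : ∀ (U : S.Opens) (hU : IsAffineOpen U), φ ≫ l U hU = ψ ≫ l U hU) : φ = ψ := by
  refine Scheme.Modules.hom_ext _ _ fun W => ?_
  ext s
  let O : TopCat.Sheaf Ab.{u} P.toTopCat := ⟨F.presheaf, F.isSheaf⟩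
  refine O.eq_of_locally_eq' (fun U : S.affineOpens => W ⊓ p ⁻¹ᵁ U.1) W (fun U => homOfLE inf_le_left)
    (fun x hx => ?_) _ _ fun U => ?_
  · obtain ⟨U, hU⟩ := exists_affine_nhd (p := p) x
    exact Opens.mem_iSup.mpr ⟨U, hx, hU⟩
  · show Frame.rs F inf_le_left (φ.app W s) = Frame.rs F inf_le_left (ψ.app W s)
    rw [← IsoCover.app_rs', ← IsoCover.app_rs']
    refine (hF.bijective U.1 U.2 _ inf_le_right).1 ?_
    exact congr($(h U.1 U.2).app (W ⊓ p ⁻¹ᵁ U.1) (Frame.rs G inf_le_left s))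

variable {D' : Data 𝒮} {n' : ℤ}

/-- A family of chart morphisms commuting with restriction. -/
def IsNat (e : ∀ (U : S.Opens) (hU : IsAffineOpen U), D.T U hU n ⟶ D'.T U hU n') : Prop :=
  ∀ (U E : S.affineOpens) (h : Bas U.1 E.1) (W : P.Opens) (a : Γ(D.G p chart n E.1 E.2, W))
    (b : Γ(D.G p chart n U.1 U.2, W)) (y : ProjectiveSpectrum (𝒮.deg E.1 E.2)),
    (RelProj.emb p chart E.1 E.2).base y ∈ W →
    (∀ z, (RelProj.emb p chart E.1 E.2).base z ∈ W →
      D.vtot p chart n a z = D.ρ U.2 E.2 h z (D.vtot p chart n b (down U.2 E.2 h z))) →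
    D'.vtot p chart n' (((Scheme.Modules.pushforward (RelProj.emb p chart E.1 E.2)).map (e E.1 E.2)).app W a) y =
      D'.ρ U.2 E.2 h y
        (D'.vtot p chart n' (((Scheme.Modules.pushforward (RelProj.emb p chart U.1 U.2)).map (e U.1 U.2)).app W b)
          (down U.2 E.2 h y))

variable {e : ∀ (U : S.Opens) (hU : IsAffineOpen U), D.T U hU n ⟶ D'.T U hU n'} (he : IsNat (p := p) (chart := chart) e)

/-- The morphism of glued modules. -/
def gluedMap : D.glued p chart n hP ⟶ D'.glued p chart n' hP :=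
  ⟨PresheafOfModules.homMk
    { app := fun W => AddCommGrpCat.ofHom
        { toFun := fun s : D.compatSub p chart n hP W =>
            (⟨fun U => ((Scheme.Modules.pushforward (RelProj.emb p chart U.1 U.2)).map (e U.1 U.2)).app W.unop (s.1 U),
              fun U E h y hy => he U E h W.unop _ _ y hy fun z hz => s.2 U E h z hz⟩ :
              D'.compatSub p chart n' hP W)
          map_zero' := Subtype.ext (funext fun U => map_zero _)
          map_add' := fun a b => Subtype.ext (funext fun U => map_add _ (a.1 U) (b.1 U)) }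
      naturality := fun W W' i => AddCommGrpCat.hom_ext (AddMonoidHom.ext fun s => Subtype.ext (funext fun U =>
        ConcreteCategory.congr_hom
          (((Scheme.Modules.pushforward (RelProj.emb p chart U.1 U.2)).map (e U.1 U.2)).mapPresheaf.naturality i)
          ((show D.compatSub p chart n hP W from s).1 U))) }
    fun W r s => Subtype.ext (funext fun U =>
      Scheme.Modules.Hom.app_smul ((Scheme.Modules.pushforward (RelProj.emb p chart U.1 U.2)).map (e U.1 U.2)) r
        ((show D.compatSub p chart n hP W from s).1 U))⟩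

variable {F' : P.Modules} {l' : ∀ (U : S.Opens) (hU : IsAffineOpen U), F' ⟶ D'.G p chart n' U hU}
  (hF' : D'.IsRel p chart n' F' l')

include hP hF hF' he in
theorem existsUnique_map :
    ∃! φ : F ⟶ F', ∀ (U : S.Opens) (hU : IsAffineOpen U),
      φ ≫ l' U hU = l U hU ≫ (Scheme.Modules.pushforward (RelProj.emb p chart U hU)).map (e U hU) := by
  haveI := hF'.isIso_toGlued hP
  refine ⟨hF.toGlued hP ≫ gluedMap hP he ≫ inv (hF'.toGlued hP), fun U hU => ?_,
    fun φ hφ => hF'.hom_ext fun U hU => ?_⟩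
  all_goals
    have key : (hF.toGlued hP ≫ gluedMap hP he ≫ inv (hF'.toGlued hP)) ≫ l' U hU =
        l U hU ≫ (Scheme.Modules.pushforward (RelProj.emb p chart U hU)).map (e U hU) := by
      rw [← hF'.toGlued_lam hP U hU, Category.assoc, Category.assoc, IsIso.inv_hom_id_assoc]
      exact Scheme.Modules.hom_ext _ _ fun W => rfl
  · exact key
  · rw [hφ U hU, key]

include hP hF in
theorem unique_iso {F' : P.Modules} {l' : ∀ (U : S.Opens) (hU : IsAffineOpen U), F' ⟶ D.G p chart n U hU}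
    (hF' : D.IsRel p chart n F' l') :
    (∃! φ : F ⟶ F', ∀ (U : S.Opens) (hU : IsAffineOpen U), φ ≫ l' U hU = l U hU) ∧
      ∀ φ : F ⟶ F', (∀ (U : S.Opens) (hU : IsAffineOpen U), φ ≫ l' U hU = l U hU) → IsIso φ := by
  haveI := hF'.isIso_toGlued hP
  haveI := hF.isIso_toGlued hP
  have hex : ∀ (U : S.Opens) (hU : IsAffineOpen U),
      (hF.toGlued hP ≫ inv (hF'.toGlued hP)) ≫ l' U hU = l U hU := fun U hU => by
    rw [← hF'.toGlued_lam hP U hU, Category.assoc, IsIso.inv_hom_id_assoc, hF.toGlued_lam hP U hU]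
  refine ⟨⟨_, hex, fun φ hφ => hF'.hom_ext fun U hU => (hφ U hU).trans (hex U hU).symm⟩, fun φ hφ => ?_⟩
  rw [hF'.hom_ext fun U hU => (hφ U hU).trans (hex U hU).symm]
  infer_instance

/-- A module map on the chart modules given by a map of the localized modules. -/
theorem isNat_of_val (e : ∀ (U : S.Opens) (hU : IsAffineOpen U), D.T U hU n ⟶ D'.T U hU n')
    (f : ∀ (U : S.Opens) (hU : IsAffineOpen U) (x : ProjectiveSpectrum (𝒮.deg U hU)),
      GrMod.LocMod (𝒮.deg U hU) (M := D.M U hU) x →+ GrMod.LocMod (𝒮.deg U hU) (M := D'.M U hU) x)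
    (hval : ∀ (U : S.Opens) (hU : IsAffineOpen U) (V : (Proj (𝒮.deg U hU)).Opens) (s : Γ(D.T U hU n, V)) (x : V),
      GrMod.val (V := V) ((e U hU).app V s) x = f U hU x.1 (GrMod.val (V := V) s x))
    (hf : ∀ (U E : S.affineOpens) (h : Bas U.1 E.1) (y : ProjectiveSpectrum (𝒮.deg E.1 E.2))
      (q : GrMod.LocMod (𝒮.deg U.1 U.2) (M := D.M U.1 U.2) (down U.2 E.2 h y)),
      D'.ρ U.2 E.2 h y (f U.1 U.2 (down U.2 E.2 h y) q) = f E.1 E.2 y (D.ρ U.2 E.2 h y q))
    (hP : RelProj.IsRelProj 𝒮 p chart) :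
    IsNat (p := p) (chart := chart) e := by
  intro U E h W a b y hy hab
  have hy' : (RelProj.emb p chart U.1 U.2).base (down U.2 E.2 h y) ∈ W := by rw [emb_down hP]; exact hy
  have h1 := hab y hy
  rw [vtot, vtot, D.tot_of_mem _ hy, D.tot_of_mem _ hy'] at h1
  rw [vtot, vtot, D'.tot_of_mem _ hy, D'.tot_of_mem _ hy']
  refine (hval E.1 E.2 (RelProj.emb p chart E.1 E.2 ⁻¹ᵁ W) a ⟨y, hy⟩).trans ?_
  refine (congrArg (f E.1 E.2 y) h1).trans ?_
  rw [← hf U E h y]
  exact congrArg (D'.ρ U.2 E.2 h y) (hval U.1 U.2 (RelProj.emb p chart U.1 U.2 ⁻¹ᵁ W) b ⟨_, hy'⟩).symm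

end Data

end Groth.L18.RelTilde
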