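import Groth.Agent.L18.RelTilde.Data
import Mathlib.Algebra.Category.ModuleCat.Presheaf
import Mathlib.Topology.Sheaves.SheafCondition.UniqueGluing

/-!
# The module on a relative `Proj` glued from local data
-/

set_option autoImplicit false

noncomputable section

universe u

open CategoryTheory CategoryTheory.Limits AlgebraicGeometry TopologicalSpace Opposite
open scoped HomogeneousIdeal
open Groth.L18

namespace Groth.L18.RelTilde

namespace Data

variable {S P : Scheme.{u}} {𝒮 : RelProj.QCGrAlg S} (D : Data 𝒮) (p : P ⟶ S)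
  (chart : ∀ (U : S.Opens) (hU : IsAffineOpen U), (((p ⁻¹ᵁ U : P.Opens) : Scheme.{u}) ≅ Proj (𝒮.deg U hU))) (n : ℤ)

/-- The pushed-forward chart module. -/
abbrev G (U : S.Opens) (hU : IsAffineOpen U) : P.Modules :=
  (Scheme.Modules.pushforward (RelProj.emb p chart U hU)).obj (D.T U hU n)

/-- A section of a pushed-forward chart module, as a function. -/
abbrev vtot {U : S.Opens} {hU : IsAffineOpen U} {W : P.Opens} (t : Γ(D.G p chart n U hU, W))
    (x : ProjectiveSpectrum (𝒮.deg U hU)) : GrMod.LocMod (𝒮.deg U hU) (M := D.M U hU) x :=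
  D.tot (Ω := RelProj.emb p chart U hU ⁻¹ᵁ W) t x

theorem vtot_res {U : S.Opens} {hU : IsAffineOpen U} {W W' : P.Opens} (i : W' ≤ W) (t : Γ(D.G p chart n U hU, W))
    {x : ProjectiveSpectrum (𝒮.deg U hU)} (hx : (RelProj.emb p chart U hU).base x ∈ W') :
    D.vtot p chart n ((D.G p chart n U hU).presheaf.map (homOfLE i).op t) x = D.vtot p chart n t x := by
  rw [vtot, vtot, D.tot_of_mem _ hx, D.tot_of_mem t (i hx)]
  rfl

/-- The scalar at a point. -/
abbrev scalar {U : S.Opens} (hU : IsAffineOpen U) {W : P.Opens} (c : Γ(P, W)) (x : ProjectiveSpectrum (𝒮.deg U hU))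
    (hx : (RelProj.emb p chart U hU).base x ∈ W) : GrTwist.A0 (𝒮.deg U hU) x :=
  (show GrTwist.O (𝒜 := 𝒮.deg U hU) (op (RelProj.emb p chart U hU ⁻¹ᵁ W)) from
    (RelProj.emb p chart U hU).app W c).1 ⟨x, hx⟩

theorem vtot_smul {U : S.Opens} {hU : IsAffineOpen U} {W : P.Opens} (c : Γ(P, W)) (t : Γ(D.G p chart n U hU, W))
    {x : ProjectiveSpectrum (𝒮.deg U hU)} (hx : (RelProj.emb p chart U hU).base x ∈ W) :
    D.vtot p chart n (c • t) x = (scalar p chart hU c x hx).val • D.vtot p chart n t x := by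
  rw [vtot, D.tot_of_mem _ hx, vtot, D.tot_of_mem t hx]
  exact GrMod.coe_smul_val n x _ _

variable {p chart}

theorem scalar_down (hP : RelProj.IsRelProj 𝒮 p chart) {U V : S.Opens} (hU : IsAffineOpen U) (hV : IsAffineOpen V)
    (h : Bas U V) {W : P.Opens} (c : Γ(P, W)) (y : ProjectiveSpectrum (𝒮.deg V hV))
    (hy : (RelProj.emb p chart V hV).base y ∈ W) (hy' : (RelProj.emb p chart U hU).base (down hU hV h y) ∈ W) :
    GrTwist.locMap (𝒮.res hU hV h.le) (RP.irr 𝒮 hU hV h h.le) y (scalar p chart hU c (down hU hV h y) hy').val =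
      (scalar p chart hV c y hy).val := by
  have e := ConcreteCategory.congr_hom
    (Scheme.Hom.congr_app (mapRes_emb hP hU hV h).symm W) c
  rw [scalar, scalar]
  conv_rhs => rw [e]
  symm
  refine (congrArg HomogeneousLocalization.val ?_).trans ((HomogeneousLocalization.val_localRingHom _).trans rfl)
  exact GrTwist.comapStructureSheaf_apply (𝒮.res hU hV h.le) (RP.irr 𝒮 hU hV h h.le)
    (RelProj.emb p chart U hU ⁻¹ᵁ W) (RP.mapRes 𝒮 hU hV h h.le ⁻¹ᵁ (RelProj.emb p chart U hU ⁻¹ᵁ W))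
    Set.Subset.rfl _ ⟨y, hy'⟩

variable (p chart)

/-- Families of local sections. -/
abbrev Fam (W : P.Opensᵒᵖ) : Type u := ∀ U : S.affineOpens, Γ(D.G p chart n U.1 U.2, W.unop)

/-- A family is compatible along basic opens. -/
def IsCompat (W : P.Opens) (s : D.Fam p chart n (op W)) : Prop :=
  ∀ (U E : S.affineOpens) (h : Bas U.1 E.1) (y : ProjectiveSpectrum (𝒮.deg E.1 E.2)),
    (RelProj.emb p chart E.1 E.2).base y ∈ W →
      D.vtot p chart n (s E) y = D.ρ U.2 E.2 h y (D.vtot p chart n (s U) (down U.2 E.2 h y))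

variable (hP : RelProj.IsRelProj 𝒮 p chart)

include hP in
/-- The module of compatible families. -/
def compatSub (W : P.Opensᵒᵖ) : Submodule Γ(P, W.unop) (D.Fam p chart n W) where
  carrier := {s | D.IsCompat p chart n W.unop s}
  zero_mem' U E h y _ := by
    show D.tot _ y = D.ρ U.2 E.2 h y (D.tot _ _)
    rw [show ((0 : D.Fam p chart n W) E) = 0 from rfl, show ((0 : D.Fam p chart n W) U) = 0 from rfl]
    erw [D.tot_zero, D.tot_zero]
    rw [map_zero]
  add_mem' {a b} ha hb U E h y hy := by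
    show D.tot _ y = D.ρ U.2 E.2 h y (D.tot _ _)
    rw [show (a + b) E = a E + b E from rfl, show (a + b) U = a U + b U from rfl]
    erw [D.tot_add, D.tot_add]
    rw [map_add]
    exact congrArg₂ (· + ·) (ha U E h y hy) (hb U E h y hy)
  smul_mem' c {a} ha U E h y hy := by
    have hy' : (RelProj.emb p chart U.1 U.2).base (down U.2 E.2 h y) ∈ W.unop := by
      rw [emb_down hP]; exact hy
    show D.vtot p chart n (c • a E) y = D.ρ U.2 E.2 h y (D.vtot p chart n (c • a U) _)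
    rw [D.vtot_smul p chart n c (a E) hy, D.vtot_smul p chart n c (a U) hy', ha U E h y hy]
    refine Eq.trans ?_ (GrMod.locModMap_smul _ _ _ y _ _).symm
    rw [scalar_down hP U.2 E.2 h c y hy hy']

/-- Restriction of compatible families. -/
def famRes {W W' : P.Opensᵒᵖ} (i : W ⟶ W') : D.compatSub p chart n hP W →+ D.compatSub p chart n hP W' where
  toFun s := ⟨fun U => (D.G p chart n U.1 U.2).presheaf.map i (s.1 U), fun U E h y hy => by
    have hy' : (RelProj.emb p chart U.1 U.2).base (down U.2 E.2 h y) ∈ W'.unop := by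
      rw [emb_down hP]; exact hy
    show D.vtot p chart n _ y = D.ρ U.2 E.2 h y (D.vtot p chart n _ _)
    rw [show i = (homOfLE i.unop.le).op from rfl, D.vtot_res p chart n _ _ hy, D.vtot_res p chart n _ _ hy']
    exact s.2 U E h y (i.unop.le hy)⟩
  map_zero' := Subtype.ext (funext fun U => map_zero _)
  map_add' s t := Subtype.ext (funext fun U => map_add _ _ _)

/-- The underlying presheaf. -/
def pre : TopCat.Presheaf AddCommGrpCat.{u} P where
  obj W := AddCommGrpCat.of (D.compatSub p chart n hP W)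
  map i := AddCommGrpCat.ofHom (D.famRes p chart n hP i)
  map_id W := by
    refine AddCommGrpCat.hom_ext (AddMonoidHom.ext fun s => Subtype.ext (funext fun U => ?_))
    exact ConcreteCategory.congr_hom ((D.G p chart n U.1 U.2).presheaf.map_id W) (s.1 U)
  map_comp i j := by
    refine AddCommGrpCat.hom_ext (AddMonoidHom.ext fun s => Subtype.ext (funext fun U => ?_))
    exact ConcreteCategory.congr_hom ((D.G p chart n U.1 U.2).presheaf.map_comp i j) (s.1 U)

theorem isSheaf_pre : (D.pre p chart n hP).IsSheaf := by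
  refine (TopCat.Presheaf.isSheaf_iff_isSheafUniqueGluing _).mpr fun {ι} Ω sf hsf => ?_
  have hU : ∀ U : S.affineOpens, ∃! t : Γ(D.G p chart n U.1 U.2, iSup Ω),
      ∀ i, (D.G p chart n U.1 U.2).presheaf.map (homOfLE (le_iSup Ω i)).op t = (sf i).1 U := fun U => by
    refine TopCat.Sheaf.existsUnique_gluing ⟨(D.G p chart n U.1 U.2).presheaf, (D.G p chart n U.1 U.2).isSheaf⟩
      Ω (fun i => (sf i).1 U) fun i j => ?_
    exact congrArg (fun w : D.compatSub p chart n hP (op (Ω i ⊓ Ω j)) => w.1 U) (hsf i j)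
  choose t ht huniq using hU
  refine ⟨⟨t, fun U E h y hy => ?_⟩, fun i => Subtype.ext (funext fun U => ht U i), fun s hs => ?_⟩
  · obtain ⟨i, hi⟩ := Opens.mem_iSup.mp hy
    have hy' : (RelProj.emb p chart U.1 U.2).base (down U.2 E.2 h y) ∈ Ω i := by rw [emb_down hP]; exact hi
    show D.vtot p chart n (t E) y = D.ρ U.2 E.2 h y (D.vtot p chart n (t U) _)
    rw [← D.vtot_res p chart n (le_iSup Ω i) (t E) hi, ← D.vtot_res p chart n (le_iSup Ω i) (t U) hy', ht, ht]
    exact (sf i).2 U E h y hi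
  · exact Subtype.ext (funext fun U => huniq U _ fun i =>
      congrArg (fun w : D.compatSub p chart n hP (op (Ω i)) => w.1 U) (hs i))

/-- The presheaf of modules. -/
def pmod : PresheafOfModules.{u} (P.presheaf ⋙ forget₂ CommRingCat RingCat) :=
  letI (W : (TopologicalSpace.Opens P)ᵒᵖ) :
      Module ↑((P.presheaf ⋙ forget₂ CommRingCat RingCat).obj W) ↑((D.pre p chart n hP).obj W) :=
    (D.compatSub p chart n hP W).module
  .ofPresheaf (D.pre p chart n hP) fun W W' i r s => Subtype.ext (funext fun U =>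
    (D.G p chart n U.1 U.2).val.map_smul i r ((show D.compatSub p chart n hP W from s).1 U))

/-- The glued module. -/
def glued : P.Modules where
  val := D.pmod p chart n hP
  isSheaf := D.isSheaf_pre p chart n hP

/-- The chart identifications. -/
def lam (U : S.Opens) (hU : IsAffineOpen U) : D.glued p chart n hP ⟶ D.G p chart n U hU :=
  ⟨PresheafOfModules.homMk
    { app := fun W => AddCommGrpCat.ofHom
        { toFun := fun s : D.compatSub p chart n hP W => s.1 ⟨U, hU⟩
          map_zero' := rfl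
          map_add' := fun _ _ => rfl }
      naturality := fun _ _ _ => rfl }
    fun W r s => rfl⟩

theorem lam_app {U : S.Opens} (hU : IsAffineOpen U) {W : P.Opens} (s : Γ(D.glued p chart n hP, W)) :
    (D.lam p chart n hP U hU).app W s = (show D.compatSub p chart n hP (op W) from s).1 ⟨U, hU⟩ := rfl

include hP in
/-- The values of the family extending `t` at a point. -/
theorem exists_value {U : S.Opens} (hU : IsAffineOpen U) {W : P.Opens} (hW : W ≤ p ⁻¹ᵁ U)
    (t : Γ(D.G p chart n U hU, W)) {V : S.Opens} (hV : IsAffineOpen V)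
    (x : (RelProj.emb p chart V hV ⁻¹ᵁ W : (Proj (𝒮.deg V hV)).Opens)) :
    ∃ q : GrMod.tildeAt (𝒮.deg V hV) (D.deg V hV) n x.1,
      ∀ (b : ∀ z, GrMod.LocMod (𝒮.deg V hV) (M := D.M V hV) z), b x.1 = q.1 →
        ∀ (E : S.Opens) (hE : IsAffineOpen E) (hUE : Bas U E) (hVE : Bas V E)
          (y : ProjectiveSpectrum (𝒮.deg E hE)), down hV hE hVE y = x.1 →
            D.ρ hU hE hUE y (D.vtot p chart n t (down hU hE hUE y)) = D.ρ hV hE hVE y (b (down hV hE hVE y)) := by
  obtain ⟨E, hE, hUE, hVE, y, hy⟩ := exists_common_point hP hU hV x.1 (hW x.2)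
  obtain ⟨x, hx⟩ := x
  subst hy
  obtain ⟨r, hr⟩ := D.loc_bas hV hE hVE
  obtain ⟨q, hq, hqe⟩ := hr.exists_preimage (fun d m hm => D.res_mem hV hE hVE.le d m hm) (RP.irr 𝒮 hV hE hVE hVE.le) n y
    (GrMod.locModMap_mem (𝒮.res hU hE hUE.le) (RP.irr 𝒮 hU hE hUE hUE.le) (D.res hU hE hUE.le)
      (fun d m hm => D.res_mem hU hE hUE.le d m hm) y n (D.tot_mem (Ω := RelProj.emb p chart U hU ⁻¹ᵁ W) t _))
  refine ⟨⟨q, hq⟩, fun b hb E' hE' hUE' hVE' y' hy' => ?_⟩
  refine D.agree_indep hP hU hV _ b hE hE' hUE hVE hUE' hVE' y y' hy'.symm ?_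
  rw [hb]
  exact hqe.symm

include hP in
theorem exists_extend {U : S.Opens} (hU : IsAffineOpen U) {W : P.Opens} (hW : W ≤ p ⁻¹ᵁ U)
    (t : Γ(D.G p chart n U hU, W)) {V : S.Opens} (hV : IsAffineOpen V) :
    ∃ sV : Γ(D.G p chart n V hV, W), ∀ (E : S.Opens) (hE : IsAffineOpen E) (hUE : Bas U E) (hVE : Bas V E)
      (y : ProjectiveSpectrum (𝒮.deg E hE)), (RelProj.emb p chart E hE).base y ∈ W →
        D.ρ hU hE hUE y (D.vtot p chart n t (down hU hE hUE y)) =
          D.ρ hV hE hVE y (D.vtot p chart n sV (down hV hE hVE y)) := by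
  classical
  choose f hf using D.exists_value p chart n hP hU hW t hV
  let f' : ∀ x, GrMod.LocMod (𝒮.deg V hV) (M := D.M V hV) x := fun x =>
    if h : (RelProj.emb p chart V hV).base x ∈ W then (f ⟨x, h⟩).1 else 0
  have hf' : ∀ (E : S.Opens) (hE : IsAffineOpen E) (hUE : Bas U E) (hVE : Bas V E)
      (y : ProjectiveSpectrum (𝒮.deg E hE)), (RelProj.emb p chart E hE).base y ∈ W →
        D.ρ hU hE hUE y (D.vtot p chart n t (down hU hE hUE y)) = D.ρ hV hE hVE y (f' (down hV hE hVE y)) := by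
    intro E hE hUE hVE y hy
    have hy' : (RelProj.emb p chart V hV).base (down hV hE hVE y) ∈ W := by rw [emb_down hP]; exact hy
    exact hf ⟨_, hy'⟩ f' (dif_pos hy') E hE hUE hVE y rfl
  have hloc : (GrMod.isLocFrac (𝒮.deg V hV) (D.deg V hV) n).pred f := by
    rintro ⟨x, hx⟩
    obtain ⟨E, hE, hUE, hVE, y, hy⟩ := exists_common_point hP hU hV x (hW hx)
    obtain ⟨r, hr⟩ := D.loc_bas hV hE hVE
    let WE : Opens (ProjectiveSpectrum.top (𝒮.deg E hE)) := RelProj.emb p chart E hE ⁻¹ᵁ W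
    let Ω : Opens (ProjectiveSpectrum.top (𝒮.deg V hV)) :=
      RP.mapRes 𝒮 hV hE hVE hVE.le ''ᵁ (RelProj.emb p chart E hE ⁻¹ᵁ W)
    have hsubU : WE.1 ⊆ ProjectiveSpectrum.comap (𝒮.res hU hE hUE.le) (RP.irr 𝒮 hU hE hUE hUE.le) ⁻¹'
        (RelProj.emb p chart U hU ⁻¹ᵁ W).1 := fun z hz => by
      show (RelProj.emb p chart U hU).base (down hU hE hUE z) ∈ W
      rw [emb_down hP]; exact hz
    let τ := GrMod.comapApp (𝒮.res hU hE hUE.le) (RP.irr 𝒮 hU hE hUE hUE.le) (D.res hU hE hUE.le)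
      (fun d m hm => D.res_mem hU hE hUE.le d m hm) n _ WE hsubU t
    obtain ⟨σ, hσ⟩ := (hr.comapApp_bijective (fun d m hm => D.res_mem hV hE hVE.le d m hm)
      (RP.irr 𝒮 hV hE hVE hVE.le) (RP.mapRes 𝒮 hV hE hVE hVE.le).isOpenEmbedding.injective
      (RP.mapRes 𝒮 hV hE hVE hVE.le).isOpenEmbedding.isOpenMap n Ω WE
      (fun z hz => ⟨z, hz, rfl⟩) (fun z ⟨w, hw, e⟩ => ⟨w, hw, e⟩)).2 τ
    have hΩW : Ω ≤ RelProj.emb p chart V hV ⁻¹ᵁ W := by
      rintro _ ⟨z, hz, rfl⟩
      show (RelProj.emb p chart V hV).base (down hV hE hVE z) ∈ W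
      rw [emb_down hP]; exact hz
    have hxΩ : x ∈ Ω := ⟨y, show (RelProj.emb p chart E hE).base y ∈ W by rw [← emb_down hP hV hE hVE, hy]; exact hx, hy⟩
    obtain ⟨V', hV', iV', i, j, a, c, cnin, hc, hw⟩ := σ.2 ⟨x, hxΩ⟩
    refine ⟨V', hV', iV' ≫ homOfLE hΩW, i, j, a, c, cnin, hc, fun z => Eq.trans ?_ (hw z)⟩
    obtain ⟨w, hw', hwz⟩ := iV'.le z.2
    obtain ⟨z, hz⟩ := z
    subst hwz
    refine D.ρ_injective hV hE hVE w ?_
    have h1 := hf' E hE hUE hVE w hw'
    have h2 : f' (down hV hE hVE w) = (f ⟨_, hΩW (iV'.le hz)⟩).1 := dif_pos (hΩW (iV'.le hz))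
    rw [h2] at h1
    refine h1.symm.trans ?_
    have h3 := congrArg (fun s : GrMod.sect (𝒮.deg E hE) (D.deg E hE) n (op WE) =>
      ((s.1 ⟨w, hw'⟩ : GrMod.tildeAt (𝒮.deg E hE) (D.deg E hE) n w) :
        GrMod.LocMod (𝒮.deg E hE) (M := D.M E hE) w)) hσ
    refine Eq.trans ?_ h3.symm
    rw [vtot, D.tot_of_mem t (hsubU hw')]
    rfl
  refine ⟨⟨f, hloc⟩, fun E hE hUE hVE y hy => ?_⟩
  have hy' : (RelProj.emb p chart V hV).base (down hV hE hVE y) ∈ W := by rw [emb_down hP]; exact hy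
  rw [hf' E hE hUE hVE y hy, vtot, D.tot_of_mem _ hy',
    show f' (down hV hE hVE y) = (f ⟨_, hy'⟩).1 from dif_pos hy']

theorem lam_bijective {U : S.Opens} (hU : IsAffineOpen U) {W : P.Opens} (hW : W ≤ p ⁻¹ᵁ U) :
    Function.Bijective ((D.lam p chart n hP U hU).app W) := by
  constructor
  · intro a b hab
    refine Subtype.ext (funext fun V => D.sect_ext fun x hx => ?_)
    obtain ⟨E, hE, hUE, hVE, y, hy⟩ := exists_common_point hP hU V.2 x (hW hx)
    subst hy
    have hyW : (RelProj.emb p chart E hE).base y ∈ W := by rw [← emb_down hP V.2 hE hVE]; exact hx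
    refine D.ρ_injective V.2 hE hVE y ?_
    show D.ρ V.2 hE hVE y (D.vtot p chart n _ _) = D.ρ V.2 hE hVE y (D.vtot p chart n _ _)
    rw [← a.2 V ⟨E, hE⟩ hVE y hyW, ← b.2 V ⟨E, hE⟩ hVE y hyW, a.2 ⟨U, hU⟩ ⟨E, hE⟩ hUE y hyW,
      b.2 ⟨U, hU⟩ ⟨E, hE⟩ hUE y hyW]
    exact congrArg (fun w => D.ρ hU hE hUE y (D.vtot p chart n w (down hU hE hUE y))) hab
  · intro t
    choose s hs using fun V : S.affineOpens => D.exists_extend p chart n hP hU hW t V.2
    refine ⟨⟨s, fun V V' h y hy => ?_⟩, D.sect_ext fun x hx => ?_⟩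
    · obtain ⟨E, hE, hUE, hVE, w, hw⟩ := exists_common_point hP hU V'.2 y (hW hy)
      subst hw
      have hwW : (RelProj.emb p chart E hE).base w ∈ W := by rw [← emb_down hP V'.2 hE hVE]; exact hy
      have hVE' := Bas.trans V.2 h hVE
      refine D.ρ_injective V'.2 hE hVE w ?_
      rw [← hs V' E hE hUE hVE w hwW, ← D.ρ_comp V.2 V'.2 hE h hVE hVE' _ w, ← hs V E hE hUE hVE' w hwW]
    · obtain ⟨E, hE, hUE, hUE', w, hw⟩ := exists_common_point hP hU hU x (hW hx)
      subst hw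
      have hwW : (RelProj.emb p chart E hE).base w ∈ W := by rw [← emb_down hP hU hE hUE']; exact hx
      exact D.ρ_injective hU hE hUE w (hs ⟨U, hU⟩ E hE hUE hUE' w hwW).symm

/-- `(F, lam)` is the module on the relative `Proj` attached to the data. -/
structure IsRel (F : P.Modules) (l : ∀ (U : S.Opens) (hU : IsAffineOpen U), F ⟶ D.G p chart n U hU) : Prop where
  bijective : ∀ (U : S.Opens) (hU : IsAffineOpen U) (W : P.Opens), W ≤ p ⁻¹ᵁ U → Function.Bijective ((l U hU).app W)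
  compat : ∀ (U : S.Opens) (hU : IsAffineOpen U) (r : Γ(S, U)) (W : P.Opens) (s : Γ(F, W))
    (y : ProjectiveSpectrum (𝒮.deg (S.basicOpen r) (hU.basicOpen r)))
    (hy : (RelProj.emb p chart (S.basicOpen r) (hU.basicOpen r)).base y ∈ W)
    (hy' : (RelProj.emb p chart U hU).base (ProjectiveSpectrum.comap
      (𝒮.res hU (hU.basicOpen r) (S.basicOpen_le r)) (𝒮.irrelevant_le_map U hU r) y) ∈ W),
    GrMod.val (V := RelProj.emb p chart (S.basicOpen r) (hU.basicOpen r) ⁻¹ᵁ W)
        ((l (S.basicOpen r) (hU.basicOpen r)).app W s) ⟨y, hy⟩ =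
      GrMod.locModMap (𝒮.res hU (hU.basicOpen r) (S.basicOpen_le r)) (𝒮.irrelevant_le_map U hU r)
        (D.res hU (hU.basicOpen r) (S.basicOpen_le r)) y
        (GrMod.val (V := RelProj.emb p chart U hU ⁻¹ᵁ W) ((l U hU).app W s) ⟨_, hy'⟩)

include hP in
theorem isRel_glued : D.IsRel p chart n (D.glued p chart n hP) (D.lam p chart n hP) := by
  refine ⟨fun U hU W hW => D.lam_bijective p chart n hP hU hW, fun U hU r W s y hy hy' => ?_⟩
  have h := (show D.compatSub p chart n hP (op W) from s).2 ⟨U, hU⟩ ⟨S.basicOpen r, hU.basicOpen r⟩ ⟨r, rfl⟩ y hy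
  rw [vtot, vtot, D.tot_of_mem _ hy, D.tot_of_mem _ hy'] at h
  exact h

end Data

end Groth.L18.RelTilde
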